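import Cfsg.Agent.OddOrder.BG4.Basic
import Cfsg.Agent.OddOrder.BG4.Metacyclic
import Cfsg.Agent.OddOrder.BG7.Rank
import Cfsg.Agent.Solvable.Nilpotent
import Cfsg.Prelude.Def_OddOrderLocal
import Mathlib.Tactic

/-!
# Narrow `p`-groups (Bender–Glauberman 5.1–5.3)

* `exists_normal_abelian_self_centralizing` (BG 5.1): a normal elementary abelian subgroup of
  order `p²` of a `p`-group of rank at least three lies in a self-centralising normal abelian
  subgroup of rank at least three.
* `omegaCenter`, `omegaZ2`: the subgroups generated by the elements of exponent `p` of the centre,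
  of the second centre.
* `structure_of_maximal_elementary` (BG 5.2).
* `narrow_exists_maximal_elementary`, `narrow_exists_element` (BG 5.3).
-/

set_option autoImplicit false
set_option linter.style.haveILetI false

namespace CfsgLib.OddOrder.BG5

open Subgroup
open scoped commutatorElement

variable {R : Type*} [Group R] {p : ℕ}

theorem isElementaryAbelian_sup {A B : Subgroup R} (hA : Cfsg.IsElementaryAbelian p A)
    (hB : Cfsg.IsElementaryAbelian p B) (h : A ≤ centralizer (B : Set R)) :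
    Cfsg.IsElementaryAbelian p (A ⊔ B : Subgroup R) := by
  haveI := hA.1
  haveI := hB.1
  have hAA : A ≤ centralizer (A : Set R) := le_centralizer_iff_isMulCommutative.mpr hA.1
  have hBB : B ≤ centralizer (B : Set R) := le_centralizer_iff_isMulCommutative.mpr hB.1
  have hS : (A ⊔ B : Subgroup R) ≤ centralizer ((A ⊔ B : Subgroup R) : Set R) := by
    refine sup_le ?_ ?_ <;> rw [le_centralizer_iff] <;> refine sup_le ?_ ?_
    · exact hAA
    · exact le_centralizer_iff.mp h
    · exact h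
    · exact hBB
  refine ⟨le_centralizer_iff_isMulCommutative.mp hS, fun x hx => ?_⟩
  have hsub : (A ⊔ B : Subgroup R) ≤
      ({ carrier := {x | x ∈ (A ⊔ B : Subgroup R) ∧ x ^ p = 1}
         one_mem' := ⟨one_mem _, one_pow _⟩
         mul_mem' := fun {x y} hx hy => ⟨mul_mem hx.1 hy.1, by
           rw [(show Commute x y from hS hy.1 x hx.1).mul_pow, hx.2, hy.2, one_mul]⟩
         inv_mem' := fun {x} hx => ⟨inv_mem hx.1, by simp [hx.2]⟩ } : Subgroup R) :=
    sup_le (fun a ha => ⟨mem_sup_left ha, hA.2 a ha⟩) fun b hb => ⟨mem_sup_right hb, hB.2 b hb⟩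
  exact (hsub hx).2

theorem isElementaryAbelian_zpowers {x : R} (hx : x ^ p = 1) :
    Cfsg.IsElementaryAbelian p (zpowers x) := by
  refine ⟨inferInstance, ?_⟩
  rintro _ ⟨k, rfl⟩
  show (x ^ k) ^ p = 1
  rw [← zpow_natCast, zpow_comm, zpow_natCast, hx, one_zpow]

theorem card_lt_of_lt [Finite R] {A B : Subgroup R} (h : A < B) : Nat.card A < Nat.card B :=
  Set.ncard_lt_ncard (SetLike.coe_ssubset_coe.mpr h) (Set.toFinite _)

/-- A subgroup strictly between: in a group of order `p²` a subgroup of order `p` and an element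
outside it generate. -/
theorem sup_zpowers_eq [Finite R] [hp : Fact p.Prime] {Z E : Subgroup R} (hZE : Z ≤ E)
    (hZ : Nat.card Z = p) (hE : Nat.card E = p ^ 2) {x : R} (hx : x ∈ E) (hxZ : x ∉ Z) :
    Z ⊔ zpowers x = E := by
  have hle : Z ⊔ zpowers x ≤ E := sup_le hZE (zpowers_le.mpr hx)
  refine eq_of_le_of_card_ge hle ?_
  have hlt : Z < Z ⊔ zpowers x :=
    lt_of_le_of_ne le_sup_left fun h => hxZ (h ▸ mem_sup_right (mem_zpowers x))
  have h1 := card_lt_of_lt hlt
  have h2 := card_dvd_of_le hle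
  rw [hE] at h2 ⊢
  obtain ⟨i, hi, hi'⟩ := (Nat.dvd_prime_pow hp.out).mp h2
  rw [hi', hZ] at h1
  rw [hi']
  refine Nat.pow_le_pow_right hp.out.pos ?_
  by_contra hlt2
  rw [not_le] at hlt2
  have : p ^ i ≤ p ^ 1 := Nat.pow_le_pow_right hp.out.pos (by omega)
  rw [pow_one] at this
  omega

/-- A `p`-group with no normal elementary abelian subgroup of order above `p²` has rank at most two;
so rank at least three gives a normal elementary abelian subgroup of order at least `p³`. -/
theorem exists_normal_elementary [Finite R] [hp : Fact p.Prime] (hp2 : p ≠ 2) (hR : IsPGroup p R)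
    (hr : ¬ Cfsg.PRankLE p 2 R) :
    ∃ B : Subgroup R, B.Normal ∧ Cfsg.IsElementaryAbelian p B ∧ p ^ 3 ≤ Nat.card B := by
  by_contra! hno
  refine hr (BG4.pRankLE_two_of_normal_le hp2 hR fun A hA hAe => ?_)
  obtain ⟨n, hn⟩ := BG4.card_elementary_eq_pow hAe.2
  have h := hno A hA hAe
  rw [hn] at h ⊢
  have := (Nat.pow_lt_pow_iff_right hp.out.one_lt).mp h
  exact Nat.pow_le_pow_right hp.out.pos (by omega)

/-- BG 5.1. -/
theorem exists_normal_abelian_self_centralizing [Finite R] [hp : Fact p.Prime] (hp2 : p ≠ 2)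
    (hR : IsPGroup p R) (hr : ¬ Cfsg.PRankLE p 2 R) (E : Subgroup R) [hEn : E.Normal]
    (hE : Cfsg.IsElementaryAbelian p E) (hE2 : Nat.card E = p ^ 2) :
    ∃ A : Subgroup R, E ≤ A ∧ A.Normal ∧ centralizer (A : Set R) = A ∧
      ¬ Cfsg.PRankLE p 2 A := by
  obtain ⟨B, hBn, hB, hBc⟩ := exists_normal_elementary hp2 hR hr
  haveI := hBn
  set C := centralizer (E : Set R) with hC
  have hidx : C.index ≤ p := BG4.index_centralizer_le hR hE.2 hE2.le
  have hBC : p ^ 2 ≤ Nat.card (B ⊓ C : Subgroup R) := by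
    have h1 : C.relIndex B ≤ p :=
      ((relIndex_le_of_le_right le_top (by simpa using index_ne_zero_of_finite)).trans_eq
        (relIndex_top_right _)).trans hidx
    have h2 : Nat.card (B ⊓ C : Subgroup R) * C.relIndex B = Nat.card B := by
      rw [← inf_relIndex_left]
      exact relIndex_bot_left (B ⊓ C) ▸ relIndex_bot_left B ▸
        relIndex_mul_relIndex ⊥ (B ⊓ C) B bot_le inf_le_left
    have h3 : p ^ 3 ≤ Nat.card (B ⊓ C : Subgroup R) * p :=
      hBc.trans (h2 ▸ Nat.mul_le_mul_left _ h1)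
    rw [pow_succ p 2] at h3
    exact Nat.le_of_mul_le_mul_right h3 hp.out.pos
  set U := E ⊔ (B ⊓ C) with hU
  haveI : C.Normal := by rw [hC]; infer_instance
  haveI : (B ⊓ C).Normal := Subgroup.normal_inf_normal B C
  haveI hUn : U.Normal := by rw [hU]; infer_instance
  have hUe : Cfsg.IsElementaryAbelian p U := by
    refine isElementaryAbelian_sup hE (isElementaryAbelian_mono inf_le_left hB) ?_
    rw [le_centralizer_iff]
    exact inf_le_right
  have hU3 : p ^ 3 ≤ Nat.card U := by
    obtain ⟨n, hn⟩ := BG4.card_elementary_eq_pow hUe.2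
    by_contra hlt
    rw [not_le, hn, Nat.pow_lt_pow_iff_right hp.out.one_lt] at hlt
    have hUE : E = U := eq_of_le_of_card_ge le_sup_left (by
      rw [hn, hE2]; exact Nat.pow_le_pow_right hp.out.pos (by omega))
    have hle : B ⊓ C ≤ E := hUE ▸ le_sup_right
    have heq : B ⊓ C = E := eq_of_le_of_card_ge hle (hE2 ▸ hBC)
    have hBC' : B ≤ C := by
      haveI := hB.1
      intro b hb e he
      exact setLike_mul_comm (s := B) (heq.ge.trans inf_le_left he) hb
    rw [inf_eq_left.mpr hBC'] at heq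
    rw [heq, hE2] at hBc
    exact absurd hBc (not_le.mpr (Nat.pow_lt_pow_right hp.out.one_lt (by omega)))
  obtain ⟨A, ⟨hUA, hAn, hAc⟩, hmax⟩ := Set.Finite.exists_maximal
    (s := {A : Subgroup R | U ≤ A ∧ A.Normal ∧ IsMulCommutative A})
    (Set.toFinite _) ⟨U, le_rfl, hUn, hUe.1⟩
  haveI := hR.isNilpotent
  haveI := hAn
  haveI := hAc
  refine ⟨A, le_sup_left.trans hUA, hAn, ?_, not_pRankLE_of_le hUA hUe hU3⟩
  exact Solvable.centralizer_eq_of_maximal_abelian_normal fun M hM hMc hle =>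
    le_antisymm (hmax ⟨hUA.trans hle, hM, hMc⟩ hle) hle

/-- The subgroup generated by the elements of exponent `p` of the centre. -/
def omegaCenter (p : ℕ) (R : Type*) [Group R] : Subgroup R :=
  closure {x : R | x ∈ center R ∧ x ^ p = 1}

/-- The subgroup generated by the elements of exponent `p` of the second centre. -/
def omegaZ2 (p : ℕ) (R : Type*) [Group R] : Subgroup R :=
  closure {x : R | x ∈ Subgroup.upperCentralSeries R 2 ∧ x ^ p = 1}

theorem mem_omegaCenter_iff {x : R} : x ∈ omegaCenter p R ↔ x ∈ center R ∧ x ^ p = 1 := by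
  refine ⟨fun h => ?_, fun h => subset_closure h⟩
  induction h using closure_induction with
  | mem x hx => exact hx
  | one => exact ⟨one_mem _, one_pow _⟩
  | mul a b _ _ ha hb =>
    exact ⟨mul_mem ha.1 hb.1, by
      rw [(show Commute a b from (mem_center_iff.mp ha.1 b).symm).mul_pow, ha.2, hb.2, one_mul]⟩
  | inv a _ ha => exact ⟨inv_mem ha.1, by rw [inv_pow, ha.2, inv_one]⟩

theorem mem_ucs_two_iff {x : R} :
    x ∈ Subgroup.upperCentralSeries R 2 ↔ ∀ g : R, ⁅x, g⁆ ∈ center R := by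
  rw [Subgroup.mem_upperCentralSeries_succ_iff]
  simp only [Subgroup.upperCentralSeries_one, commutatorElement_def]

theorem commute_commutator_of_ucs_two {x : R} (hx : x ∈ Subgroup.upperCentralSeries R 2)
    (g z : R) : Commute ⁅x, g⁆ z :=
  (mem_center_iff.mp (mem_ucs_two_iff.mp hx g) z).symm

theorem mem_omegaZ2_iff [Fact p.Prime] (hp2 : p ≠ 2) {x : R} :
    x ∈ omegaZ2 p R ↔ x ∈ Subgroup.upperCentralSeries R 2 ∧ x ^ p = 1 := by
  refine ⟨fun h => ?_, fun h => subset_closure h⟩
  induction h using closure_induction with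
  | mem x hx => exact hx
  | one => exact ⟨one_mem _, one_pow _⟩
  | mul a b _ _ ha hb =>
    exact ⟨mul_mem ha.1 hb.1,
      BG4.mul_pow_eq_one hp2 (fun z => commute_commutator_of_ucs_two hb.1 a z) ha.2 hb.2⟩
  | inv a _ ha => exact ⟨inv_mem ha.1, by rw [inv_pow, ha.2, inv_one]⟩

theorem omegaZ2_characteristic [Fact p.Prime] (hp2 : p ≠ 2) : (omegaZ2 p R).Characteristic := by
  refine characteristic_iff_le_comap.mpr fun φ x hx => ?_
  obtain ⟨h1, h2⟩ := (mem_omegaZ2_iff hp2).mp hx
  refine (mem_omegaZ2_iff hp2).mpr ⟨mem_ucs_two_iff.mpr fun g => ?_, ?_⟩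
  · have h3 := characteristic_iff_le_comap.mp centerCharacteristic φ (mem_ucs_two_iff.mp h1 (φ.symm g))
    rw [mem_comap, map_commutatorElement] at h3
    simpa using h3
  · show φ x ^ p = 1
    rw [← map_pow, h2, map_one]

/-- A normal subgroup of order `p²` and exponent `p` lies in `omegaZ2`. -/
theorem le_omegaZ2 [Finite R] [hp : Fact p.Prime] (hp2 : p ≠ 2) (hR : IsPGroup p R)
    {U : Subgroup R} [U.Normal] (hU : ∀ u ∈ U, u ^ p = 1) (hc : Nat.card U = p ^ 2) :
    U ≤ omegaZ2 p R := by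
  intro u hu
  refine (mem_omegaZ2_iff hp2).mpr ⟨mem_ucs_two_iff.mpr fun g => ?_, hU u hu⟩
  set N := ⁅U, (⊤ : Subgroup R)⁆ with hN
  have hNU : N ≤ U := commutator_le_left _ _
  have hne : N ≠ U := fun h => by
    haveI := hR.isNilpotent
    have hbot := BG4.eq_bot_of_le_commutator_top (N := U) h.ge
    rw [hbot, card_bot] at hc
    exact (Nat.one_lt_pow two_ne_zero hp.out.one_lt).ne hc
  have h2 := card_dvd_of_le hNU
  rw [hc] at h2
  obtain ⟨i, hi, hi'⟩ := (Nat.dvd_prime_pow hp.out).mp h2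
  have hi2 : i ≠ 2 := fun h => hne (eq_of_le_of_card_ge hNU (by rw [hi', h, hc]))
  have hmem : ⁅u, g⁆ ∈ N := commutator_mem_commutator hu (mem_top g)
  rcases (show i = 0 ∨ i = 1 by omega) with rfl | rfl
  · rw [pow_zero, card_eq_one] at hi'
    rw [hi', mem_bot] at hmem
    rw [hmem]
    exact one_mem _
  · haveI : N.Normal := by rw [hN]; infer_instance
    exact BG4.le_center_of_normal_card_prime hR (hi'.trans (pow_one p)) hmem

/-- BG 5.2. -/
theorem structure_of_maximal_elementary [Finite R] [hp : Fact p.Prime] (hp2 : p ≠ 2)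
    (hR : IsPGroup p R) (hr : ¬ Cfsg.PRankLE p 2 R)
    (E : Subgroup R) (hE : Cfsg.IsElementaryAbelian p E) (hE2 : Nat.card E = p ^ 2)
    (hEmax : ∀ B : Subgroup R, Cfsg.IsElementaryAbelian p B → E ≤ B → B = E) :
    ¬ E ≤ centralizer (omegaZ2 p R : Set R) ∧
      Nat.card ↥(omegaCenter p R) = p ∧
      (Cfsg.IsElementaryAbelian p (omegaZ2 p R) ∧ Nat.card ↥(omegaZ2 p R) = p ^ 2) ∧
      (centralizer (omegaZ2 p R : Set R)).Characteristic ∧
      (centralizer (omegaZ2 p R : Set R)).index = p ∧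
      omegaCenter p R ≤ E ∧
      ∀ r ∈ E, r ∉ centralizer (omegaZ2 p R : Set R) →
        ∀ x ∈ centralizer (omegaZ2 p R : Set R), x ^ p = 1 → Commute x r → x ∈ omegaCenter p R := by
  haveI := hE.1
  set Z := omegaCenter p R with hZdef
  set W := omegaZ2 p R with hWdef
  -- an element of exponent `p` centralising `E` lies in it
  have key : ∀ x : R, x ^ p = 1 → (∀ e ∈ E, Commute e x) → x ∈ E := by
    intro x hx hc
    refine hEmax _ (isElementaryAbelian_sup hE (isElementaryAbelian_zpowers hx) ?_) le_sup_left ▸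
      mem_sup_right (mem_zpowers x)
    rw [le_centralizer_iff, zpowers_le]
    exact fun e he => hc e he
  have hZc : ∀ z ∈ Z, ∀ g : R, Commute g z := fun z hz g =>
    mem_center_iff.mp (mem_omegaCenter_iff.mp hz).1 g
  have hZE : Z ≤ E := fun z hz => key z (mem_omegaCenter_iff.mp hz).2 fun e _ => hZc z hz e
  have hEtriv : E ≠ ⊥ := by
    rintro rfl
    rw [card_bot] at hE2
    exact (Nat.one_lt_pow two_ne_zero hp.out.one_lt).ne hE2
  have hZcard : Nat.card Z = p := by
    have h2 := card_dvd_of_le hZE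
    rw [hE2] at h2
    obtain ⟨i, hi, hi'⟩ := (Nat.dvd_prime_pow hp.out).mp h2
    rcases (show i = 0 ∨ i = 1 ∨ i = 2 by omega) with rfl | rfl | rfl
    · exfalso
      obtain ⟨e, he, hne⟩ := E.bot_or_exists_ne_one.resolve_left hEtriv
      haveI : Nontrivial R := ⟨⟨e, 1, hne⟩⟩
      obtain ⟨z, -, hzc, hzo⟩ := BG4.exists_central_orderOf_prime hR (N := ⊤) top_ne_bot
      rw [pow_zero, card_eq_one] at hi'
      have : z ∈ Z := mem_omegaCenter_iff.mpr ⟨hzc, hzo ▸ pow_orderOf_eq_one z⟩
      rw [hi', mem_bot] at this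
      rw [this, orderOf_one] at hzo
      exact hp.out.one_lt.ne hzo
    · rw [hi', pow_one]
    · exfalso
      have hEZ : Z = E := eq_of_le_of_card_ge hZE (by rw [hi', hE2])
      refine hr fun A hA hAp => (card_le_of_le fun x hx => ?_).trans hE2.le
      exact key x (hAp x hx) fun e he => (hZc e (hEZ ▸ he) x).symm
  obtain ⟨e0, he0, he0Z⟩ : ∃ e0 ∈ E, e0 ∉ Z := SetLike.not_le_iff_exists.mp fun h => by
    have h1 := card_le_of_le h
    rw [hE2, hZcard] at h1
    have h2 : p ^ 1 < p ^ 2 := Nat.pow_lt_pow_right hp.out.one_lt (by omega)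
    rw [pow_one] at h2
    omega
  have hEnotnormal : ¬ E.Normal := by
    intro hn
    haveI := hn
    obtain ⟨A, hEA, -, hAc, hAr⟩ := exists_normal_abelian_self_centralizing hp2 hR hr E hE hE2
    refine hAr fun X hX hXp => ?_
    rw [← card_map_of_injective A.subtype_injective]
    refine (card_le_of_le ?_).trans hE2.le
    rintro _ ⟨x, hx, rfl⟩
    refine key x (congrArg Subtype.val (hXp x hx)) fun e he => ?_
    exact (hAc.ge x.2) e (hEA he)
  -- a normal elementary abelian subgroup of order `p²`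
  obtain ⟨B, hBn, hB, hBc⟩ := exists_normal_elementary hp2 hR hr
  haveI := hBn
  obtain ⟨U, hUn, hUB, hUc⟩ := BG4.exists_normal_card_le hR B 2
    ((Nat.pow_le_pow_right hp.out.pos (by omega)).trans hBc)
  haveI := hUn
  have hUe : Cfsg.IsElementaryAbelian p U := isElementaryAbelian_mono hUB hB
  have hUW : U ≤ W := le_omegaZ2 hp2 hR hUe.2 hUc
  have hEU : ¬ E ≤ centralizer (U : Set R) := fun h => by
    have h1 := hEmax _ (isElementaryAbelian_sup hE hUe h) le_sup_left
    have h2 : U = E := eq_of_le_of_card_ge (h1 ▸ le_sup_right) (by rw [hUc, hE2])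
    exact hEnotnormal (h2 ▸ hUn)
  have hET : ¬ E ≤ centralizer (W : Set R) := fun h =>
    hEU (h.trans (centralizer_le (SetLike.coe_subset_coe.mpr hUW)))
  -- `E ∩ W` is `Z`
  have hEW : ∀ w ∈ W, w ∈ E → w ∈ Z := by
    intro w hw hwE
    by_contra hwZ
    refine hEnotnormal ⟨fun e he g => ?_⟩
    have hEW' : E ≤ W := by
      rw [← sup_zpowers_eq hZE hZcard hE2 hwE hwZ]
      refine sup_le (fun z hz => (mem_omegaZ2_iff hp2).mpr ⟨?_, (mem_omegaCenter_iff.mp hz).2⟩)
        (zpowers_le.mpr hw)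
      exact mem_ucs_two_iff.mpr fun y => by
        rw [commutatorElement_eq_one_iff_commute.mpr (hZc z hz y).symm]
        exact one_mem _
    obtain ⟨h1, h2⟩ := (mem_omegaZ2_iff hp2).mp (hEW' he)
    have h3 : ⁅e, g⁆ ∈ Z := mem_omegaCenter_iff.mpr ⟨mem_ucs_two_iff.mp h1 g, by
      rw [← Stab.commutatorElement_pow_left (commute_commutator_of_ucs_two h1 g e).symm, h2,
        commutatorElement_one_left]⟩
    have h4 : g * e * g⁻¹ = ⁅e, g⁆⁻¹ * e := by rw [commutatorElement_def]; group
    rw [h4]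
    exact mul_mem (inv_mem (hZE h3)) he
  -- the homomorphism `w ↦ [w, e0]`
  let f : W →* Z := MonoidHom.mk' (fun w => ⟨⁅(w : R), e0⁆, mem_omegaCenter_iff.mpr
      ⟨mem_ucs_two_iff.mp ((mem_omegaZ2_iff hp2).mp w.2).1 e0, by
        rw [← Stab.commutatorElement_pow_left
          (commute_commutator_of_ucs_two ((mem_omegaZ2_iff hp2).mp w.2).1 e0 _).symm,
          ((mem_omegaZ2_iff hp2).mp w.2).2, commutatorElement_one_left]⟩⟩)
    fun a b => Subtype.ext (by
      show ⁅(a : R) * b, e0⁆ = ⁅(a : R), e0⁆ * ⁅(b : R), e0⁆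
      have hbc := commute_commutator_of_ucs_two ((mem_omegaZ2_iff hp2).mp b.2).1 e0
      have hac := commute_commutator_of_ucs_two ((mem_omegaZ2_iff hp2).mp a.2).1 e0
      rw [commutatorElement_mul_left_eq_conj_mul, ← (hbc (a : R)).eq, mul_inv_cancel_right,
        (hbc _).eq])
  have hker : ∀ w ∈ f.ker, (w : R) ∈ Z := by
    intro w hw
    refine hEW _ w.2 (key _ ((mem_omegaZ2_iff hp2).mp w.2).2 fun e he => ?_)
    have hwe : Commute (w : R) e0 :=
      commutatorElement_eq_one_iff_commute.mp (congrArg Subtype.val (MonoidHom.mem_ker.mp hw))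
    rw [← sup_zpowers_eq hZE hZcard hE2 he0 he0Z] at he
    have hle : Z ⊔ zpowers e0 ≤ centralizer ({(w : R)} : Set R) := by
      refine sup_le (fun z hz => ?_) (zpowers_le.mpr ?_)
      · exact mem_centralizer_singleton_iff.mpr (hZc z hz w).symm.eq
      · exact mem_centralizer_singleton_iff.mpr hwe.symm.eq
    exact mem_centralizer_singleton_iff.mp (hle he)
  have hWcard : Nat.card W ≤ p ^ 2 := by
    rw [← card_mul_index f.ker, sq]
    refine Nat.mul_le_mul ?_ ?_
    · rw [← hZcard]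
      exact Nat.card_le_card_of_injective (fun w : f.ker => (⟨(w : W), hker w w.2⟩ : Z))
        fun a b h => by
          have h1 := congrArg Subtype.val h
          exact Subtype.ext (Subtype.ext h1)
    · rw [index_ker]
      exact (card_le_card_group _).trans hZcard.le
  have hWU : U = W := eq_of_le_of_card_ge hUW (hUc ▸ hWcard)
  haveI hWchar : W.Characteristic := omegaZ2_characteristic hp2
  refine ⟨hET, hZcard, ⟨hWU ▸ hUe, hWU ▸ hUc⟩, inferInstance, ?_, hZE, ?_⟩
  · have h1 : (centralizer (W : Set R)).index ≤ p :=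
      BG4.index_centralizer_le hR (fun v hv => ((mem_omegaZ2_iff hp2).mp hv).2) hWcard
    obtain ⟨n, hn⟩ := hR.index (centralizer (W : Set R))
    rw [hn] at h1 ⊢
    rcases n with _ | _ | n
    · rw [pow_zero, index_eq_one] at hn
      exact absurd (hn ▸ le_top) hET
    · rw [zero_add, pow_one]
    · exfalso
      have : p ^ 1 < p ^ (n + 1 + 1) := Nat.pow_lt_pow_right hp.out.one_lt (by omega)
      rw [pow_one] at this
      omega
  · intro r hrE hrT x hxT hxp hxr
    have hrZ : r ∉ Z := fun h => hrT fun w _ => (hZc r h w).eq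
    have hxE : x ∈ E := by
      refine key x hxp fun e he => ?_
      rw [← sup_zpowers_eq hZE hZcard hE2 hrE hrZ] at he
      have hle : Z ⊔ zpowers r ≤ centralizer ({x} : Set R) := by
        refine sup_le (fun z hz => ?_) (zpowers_le.mpr ?_)
        · exact mem_centralizer_singleton_iff.mpr (hZc z hz x).symm.eq
        · exact mem_centralizer_singleton_iff.mpr hxr.symm.eq
      exact mem_centralizer_singleton_iff.mp (hle he)
    by_contra hxZ
    apply hET
    rw [← sup_zpowers_eq hZE hZcard hE2 hxE hxZ]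
    exact sup_le (fun z hz w _ => (hZc z hz w).eq) (zpowers_le.mpr hxT)

/-- BG 5.3: a narrow `p`-group of rank at least three has a maximal elementary abelian subgroup of
order `p²`. -/
theorem narrow_exists_maximal_elementary [Finite R] [hp : Fact p.Prime] (hR : IsPGroup p R)
    (hr : ¬ Cfsg.PRankLE p 2 R) (hn : Cfsg.IsNarrow p R) :
    ∃ E : Subgroup R, Cfsg.IsElementaryAbelian p E ∧ Nat.card E = p ^ 2 ∧
      ∀ B : Subgroup R, Cfsg.IsElementaryAbelian p B → E ≤ B → B = E := by
  obtain ⟨R₀, R₁, h0, hcyc, -, hcomm, hC⟩ := hn.resolve_left hr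
  haveI := hcyc
  haveI hR0c : IsCyclic R₀ := isCyclic_of_prime_card h0
  set C := centralizer (R₀ : Set R) with hCdef
  have hR0e : Cfsg.IsElementaryAbelian p R₀ :=
    ⟨inferInstance, fun a ha => by
      have := orderOf_dvd_natCard (⟨a, ha⟩ : R₀)
      rw [h0, orderOf_dvd_iff_pow_eq_one] at this
      simpa using congrArg Subtype.val this⟩
  -- `C` is abelian
  have hCab : C ≤ centralizer (C : Set R) := by
    have e0 : R₀ ≤ centralizer (R₀ : Set R) := le_centralizer_iff_isMulCommutative.mpr inferInstance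
    have e1 : R₁ ≤ centralizer (R₁ : Set R) := le_centralizer_iff_isMulCommutative.mpr inferInstance
    have e01 : R₀ ≤ centralizer (R₁ : Set R) := fun a ha b hb => (hcomm a ha b hb).symm
    rw [← hC]
    refine sup_le ?_ ?_ <;> rw [le_centralizer_iff] <;> refine sup_le ?_ ?_
    · exact e0
    · exact le_centralizer_iff.mp e01
    · exact e01
    · exact e1
  let E : Subgroup R :=
    { carrier := {x | x ∈ C ∧ x ^ p = 1}
      one_mem' := ⟨one_mem _, one_pow _⟩
      mul_mem' := fun {x y} hx hy => ⟨mul_mem hx.1 hy.1, by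
        rw [(show Commute x y from hCab hy.1 x hx.1).mul_pow, hx.2, hy.2, one_mul]⟩
      inv_mem' := fun {x} hx => ⟨inv_mem hx.1, by simp [hx.2]⟩ }
  have hEe : Cfsg.IsElementaryAbelian p E :=
    ⟨⟨⟨fun a b => Subtype.ext (hCab b.2.1 a a.2.1)⟩⟩, fun a ha => ha.2⟩
  have hR0E : R₀ ≤ E := fun a ha =>
    ⟨(le_centralizer_iff_isMulCommutative.mpr inferInstance : R₀ ≤ centralizer (R₀ : Set R)) ha,
      hR0e.2 a ha⟩
  have hEcard : Nat.card E ≤ p ^ 2 := by
    let S := {b : R₁ | b ^ p = 1}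
    have hS : Nat.card S ≤ p := by
      classical
      haveI := Fintype.ofFinite R₁
      have h := IsCyclic.card_pow_eq_one_le (α := R₁) hp.out.pos
      rw [Nat.card_eq_fintype_card, Fintype.card_subtype]
      convert h using 3
      simp [S]
    let P : Subgroup R :=
      { carrier := {x | ∃ a ∈ R₀, ∃ b ∈ R₁, a * b = x}
        one_mem' := ⟨1, one_mem _, 1, one_mem _, one_mul _⟩
        mul_mem' := by
          rintro _ _ ⟨a, ha, b, hb, rfl⟩ ⟨a', ha', b', hb', rfl⟩
          refine ⟨a * a', mul_mem ha ha', b * b', mul_mem hb hb', ?_⟩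
          rw [mul_assoc, ← mul_assoc a', hcomm a' ha' b hb, mul_assoc, mul_assoc]
        inv_mem' := by
          rintro _ ⟨a, ha, b, hb, rfl⟩
          exact ⟨a⁻¹, inv_mem ha, b⁻¹, inv_mem hb, by
            rw [hcomm a⁻¹ (inv_mem ha) b⁻¹ (inv_mem hb), mul_inv_rev]⟩ }
    have hCP : C ≤ P := hC ▸ sup_le (fun a ha => ⟨a, ha, 1, one_mem _, mul_one a⟩)
      (fun b hb => ⟨1, one_mem _, b, hb, one_mul b⟩)
    have hsurj : ∀ x : E, ∃ ab : R₀ × S, (ab.1 : R) * (ab.2 : R₁) = x := by
      rintro ⟨x, hxC, hxp⟩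
      obtain ⟨a, ha, b, hb, rfl⟩ := hCP hxC
      rw [(show Commute a b from hcomm a ha b hb).mul_pow, hR0e.2 a ha, one_mul] at hxp
      exact ⟨⟨⟨a, ha⟩, ⟨⟨b, hb⟩, Subtype.ext hxp⟩⟩, rfl⟩
    choose g hg using hsurj
    refine (Nat.card_le_card_of_injective g fun x y h => Subtype.ext ?_).trans ?_
    · rw [← hg x, ← hg y, h]
    · rw [Nat.card_prod, h0, sq]
      exact Nat.mul_le_mul_left _ hS
  have hEmax : ∀ B : Subgroup R, Cfsg.IsElementaryAbelian p B → E ≤ B → B = E := by
    intro B hB hle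
    refine le_antisymm (fun b hb => ⟨?_, hB.2 b hb⟩) hle
    intro a ha
    haveI := hB.1
    exact setLike_mul_comm (s := B) (hle (hR0E ha)) hb
  refine ⟨E, hEe, le_antisymm hEcard ?_, hEmax⟩
  obtain ⟨n, hn'⟩ := BG4.card_elementary_eq_pow hEe.2
  by_contra hlt
  rw [not_le, hn', Nat.pow_lt_pow_iff_right hp.out.one_lt] at hlt
  have hEeq : R₀ = E := eq_of_le_of_card_ge hR0E (by
    rw [hn', h0]
    exact (Nat.pow_le_pow_right hp.out.pos (by omega : n ≤ 1)).trans_eq (pow_one p))
  haveI : Nontrivial R := by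
    haveI : Nontrivial R₀ := Finite.one_lt_card_iff_nontrivial.mp (h0 ▸ hp.out.one_lt)
    exact R₀.subtype_injective.nontrivial
  obtain ⟨z, -, hzc, hzo⟩ := BG4.exists_central_orderOf_prime hR (N := ⊤) top_ne_bot
  have hzE : z ∈ E := ⟨fun a _ => mem_center_iff.mp hzc a, hzo ▸ pow_orderOf_eq_one z⟩
  have hR0z : R₀ = zpowers z := by
    refine (eq_of_le_of_card_ge (zpowers_le.mpr (hEeq ▸ hzE)) ?_).symm
    rw [h0, Nat.card_zpowers, hzo]
  refine hr fun A hA hAp => (card_le_of_le fun x hx => ?_).trans hEcard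
  refine ⟨fun a ha => ?_, hAp x hx⟩
  rw [hR0z] at ha
  exact (mem_center_iff.mp (zpowers_le.mpr hzc ha) x).symm

/-- BG 5.3: in a narrow `p`-group of rank at least three there is an element `r` outside
`T = C(Ω₁(Z₂))` such that the elements of exponent `p` of `C_T(r)` are central. -/
theorem narrow_exists_element [Finite R] [hp : Fact p.Prime] (hp2 : p ≠ 2) (hR : IsPGroup p R)
    (hr : ¬ Cfsg.PRankLE p 2 R) (hn : Cfsg.IsNarrow p R) :
    (centralizer (omegaZ2 p R : Set R)).Characteristic ∧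
      (centralizer (omegaZ2 p R : Set R)).index = p ∧
      Nat.card ↥(omegaCenter p R) = p ∧
      ∃ r : R, r ∉ centralizer (omegaZ2 p R : Set R) ∧
        ∀ x ∈ centralizer (omegaZ2 p R : Set R), x ^ p = 1 → Commute x r → x ∈ omegaCenter p R := by
  obtain ⟨E, hE, hE2, hEmax⟩ := narrow_exists_maximal_elementary hR hr hn
  obtain ⟨hET, hZ, -, hTc, hTi, -, hkey⟩ := structure_of_maximal_elementary hp2 hR hr E hE hE2 hEmax
  obtain ⟨r, hrE, hrT⟩ := SetLike.not_le_iff_exists.mp hET
  exact ⟨hTc, hTi, hZ, r, hrT, hkey r hrE hrT⟩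

end CfsgLib.OddOrder.BG5
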