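import Cfsg.Agent.OddOrder.BG5.Basic
import Cfsg.Agent.OddOrder.BG4.Aut2
import Cfsg.Agent.OddOrder.BG4.Omega
import Cfsg.Agent.PLocal.PSolvable
import Mathlib.FieldTheory.Finite.Basic

/-!
# Automorphisms of narrow `p`-groups (Bender–Glauberman 5.5)

* `charFixer`: the automorphisms inducing the identity on all characteristic sections of order at
  most `p`; `pow_sub_one_mem_charFixer`, `commutator_mem_charFixer`.
* `eq_one_of_mem_charFixer`: for a narrow `p`-group of rank at least three (`p` odd) an element of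
  `charFixer` of order prime to `p` is trivial.
* `isPGroup_map_commutator`, `orderOf_dvd_sub_one`: BG 5.5 (a), (b).
* `card_eq_cube`: the last part of BG 5.5 (c).
-/

set_option autoImplicit false
set_option linter.style.haveILetI false

namespace CfsgLib.OddOrder.BG5

open Subgroup
open scoped commutatorElement

variable {R : Type*} [Group R] {p : ℕ}

theorem apply_mem_char {L : Subgroup R} (hL : L.Characteristic) (a : MulAut R) {x : R}
    (hx : x ∈ L) : a x ∈ L :=
  characteristic_iff_le_comap.mp hL a hx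

/-- The automorphisms inducing the identity on all characteristic sections of order at most `p`. -/
def charFixer (p : ℕ) (R : Type*) [Group R] : Subgroup (MulAut R) where
  carrier := {a | ∀ M L : Subgroup R, M.Characteristic → L.Characteristic → M ≤ L →
    M.relIndex L ≤ p → ∀ x ∈ L, x⁻¹ * a x ∈ M}
  one_mem' := fun M L _ _ _ _ x _ => by simp
  mul_mem' := fun {a b} ha hb M L hM hL hle hi x hx => by
    have hbx : b x ∈ L := characteristic_iff_le_comap.mp hL b hx
    have h : x⁻¹ * (a * b) x = (x⁻¹ * b x) * ((b x)⁻¹ * a (b x)) := by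
      rw [MulAut.mul_apply]; group
    rw [h]
    exact mul_mem (hb M L hM hL hle hi x hx) (ha M L hM hL hle hi _ hbx)
  inv_mem' := fun {a} ha M L hM hL hle hi x hx => by
    have hy : a⁻¹ x ∈ L := characteristic_iff_le_comap.mp hL a⁻¹ hx
    have h := inv_mem (ha M L hM hL hle hi _ hy)
    rw [MulAut.apply_inv_self, mul_inv_rev, inv_inv] at h
    exact h

/-- An automorphism induces a power map on a characteristic section of order at most `p`. -/
theorem exists_exp [Finite R] [hp : Fact p.Prime] (hR : IsPGroup p R) (a : MulAut R)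
    (M L : Subgroup R) [hM : M.Characteristic] [hL : L.Characteristic] (hle : M ≤ L)
    (hi : M.relIndex L ≤ p) : ∃ n : ℤ, (∀ x ∈ L, QuotientGroup.mk' M (a x) =
        QuotientGroup.mk' M x ^ n) ∧ (∀ x ∈ L, QuotientGroup.mk' M x ^ p = 1) ∧
      (¬ L ≤ M → ¬ (p : ℤ) ∣ n) := by
  set q := QuotientGroup.mk' M with hq
  set Lb := L.map q with hLb
  have hcard : Nat.card Lb ≤ p := by
    have h : Nat.card Lb = M.relIndex L := by
      rw [← relIndex_bot_left Lb, ← Subgroup.map_bot q, relIndex_map_map, bot_sup_eq,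
        hq, QuotientGroup.ker_mk', sup_eq_left.mpr hle]
    rw [h]; exact hi
  by_cases hLM : L ≤ M
  · have h1 : ∀ x ∈ L, q x = 1 := fun x hx => (QuotientGroup.eq_one_iff x).mpr (hLM hx)
    exact ⟨1, fun x hx => by rw [h1 x hx, h1 _ (apply_mem_char hL a hx), one_zpow],
      fun x hx => by rw [h1 x hx, one_pow], fun h => absurd hLM h⟩
  obtain ⟨g, hgL, hgM⟩ := SetLike.not_le_iff_exists.mp hLM
  have hgne : q g ≠ 1 := fun h => hgM ((QuotientGroup.eq_one_iff g).mp h)
  have hcp : Nat.card Lb = p := by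
    refine le_antisymm hcard (Nat.le_of_dvd Nat.card_pos ?_)
    refine ((hR.to_quotient M).to_subgroup Lb).card_eq_or_dvd.resolve_left fun h => hgne ?_
    exact (mem_bot.mp ((card_eq_one.mp h).le (mem_map_of_mem q hgL)))
  have hgen : ∀ x ∈ L, ∃ k : ℤ, q g ^ k = q x := by
    intro x hx
    have hne : (⟨q g, mem_map_of_mem q hgL⟩ : Lb) ≠ 1 := fun h => hgne (congrArg Subtype.val h)
    obtain ⟨k, hk⟩ := mem_zpowers_iff.mp (zpowers_eq_top_of_prime_card hcp hne ▸
      mem_top (⟨q x, mem_map_of_mem q hx⟩ : Lb))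
    exact ⟨k, by simpa using congrArg Subtype.val hk⟩
  have hpow : ∀ x ∈ L, q x ^ p = 1 := by
    intro x hx
    have := pow_card_eq_one' (x := (⟨q x, mem_map_of_mem q hx⟩ : Lb))
    rw [hcp] at this
    simpa using congrArg Subtype.val this
  obtain ⟨n, hn⟩ := hgen (a g) (apply_mem_char hL a hgL)
  have hall : ∀ x ∈ L, q (a x) = q x ^ n := by
    intro x hx
    obtain ⟨k, hk⟩ := hgen x hx
    have hm : (g ^ k)⁻¹ * x ∈ M := by
      rw [← QuotientGroup.eq_one_iff]
      show q ((g ^ k)⁻¹ * x) = 1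
      rw [map_mul, map_inv, map_zpow, hk, inv_mul_cancel]
    have ham : q (a ((g ^ k)⁻¹ * x)) = 1 :=
      (QuotientGroup.eq_one_iff _).mpr (apply_mem_char hM a hm)
    have hax : q (a x) = q (a g) ^ k := by
      rw [show x = g ^ k * ((g ^ k)⁻¹ * x) by group, map_mul, map_mul, ham, mul_one, map_zpow,
        map_zpow]
    rw [hax, ← hn, ← hk, ← zpow_mul, ← zpow_mul, mul_comm]
  refine ⟨n, hall, hpow, fun _ ⟨c, hc⟩ => hgM ?_⟩
  have h1 : q (a g) = 1 := by rw [hall g hgL, hc, zpow_mul, zpow_natCast, hpow g hgL, one_zpow]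
  have h2 := apply_mem_char hM a⁻¹ ((QuotientGroup.eq_one_iff _).mp h1)
  simpa using h2

theorem pow_sub_one_mem_charFixer [Finite R] [hp : Fact p.Prime] (hR : IsPGroup p R)
    (a : MulAut R) : a ^ (p - 1) ∈ charFixer p R := by
  intro M L hM hL hle hi x hx
  by_cases hLM : L ≤ M
  · exact mul_mem (inv_mem (hLM hx))
      (hLM (apply_mem_char hL _ hx))
  obtain ⟨n, hn, hpow, hnd⟩ := exists_exp hR a M L hle hi
  set q := QuotientGroup.mk' M with hq
  have hiter : ∀ k : ℕ, q ((a ^ k) x) = q x ^ (n ^ k) := by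
    intro k
    induction k with
    | zero => simp
    | succ k ih =>
      rw [pow_succ' a, MulAut.mul_apply, hn _ (apply_mem_char hL _ hx), ih,
        ← zpow_mul, pow_succ n]
  have hmod : n ^ (p - 1) ≡ 1 [ZMOD p] :=
    Int.ModEq.pow_card_sub_one_eq_one hp.out (by
      rw [Int.isCoprime_iff_gcd_eq_one, Int.gcd_comm]
      exact (hp.out.coprime_iff_not_dvd.mpr fun h => hnd hLM (Int.natCast_dvd.mpr h)))
  obtain ⟨c, hc⟩ := (Int.modEq_iff_dvd.mp hmod.symm)
  rw [← QuotientGroup.eq_one_iff]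
  show q (x⁻¹ * (a ^ (p - 1)) x) = 1
  rw [map_mul, map_inv, hiter, eq_add_of_sub_eq hc, zpow_add, zpow_mul, zpow_natCast,
    hpow x hx, one_zpow, zpow_one, one_mul, inv_mul_cancel]

theorem commutator_mem_charFixer [Finite R] [hp : Fact p.Prime] (hR : IsPGroup p R)
    (a b : MulAut R) : ⁅a, b⁆ ∈ charFixer p R := by
  intro M L hM hL hle hi x hx
  obtain ⟨n, hn, -, -⟩ := exists_exp hR a M L hle hi
  obtain ⟨m, hm, -, -⟩ := exists_exp hR b M L hle hi
  set q := QuotientGroup.mk' M with hq
  have hy : (b * a)⁻¹ x ∈ L := apply_mem_char hL _ hx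
  set y := (b * a)⁻¹ x with hydef
  have hcomm : q ((a * b) y) = q ((b * a) y) := by
    rw [MulAut.mul_apply, MulAut.mul_apply, hn _ (apply_mem_char hL b hy), hm _ hy,
      hm _ (apply_mem_char hL a hy), hn _ hy, ← zpow_mul, ← zpow_mul, mul_comm]
  have hxy : (b * a) y = x := by rw [hydef, MulAut.apply_inv_self]
  have hab : ⁅a, b⁆ x = (a * b) y := by
    rw [hydef, ← MulAut.mul_apply, commutatorElement_def, mul_inv_rev, ← mul_assoc]
  rw [← QuotientGroup.eq_one_iff]
  show q (x⁻¹ * ⁅a, b⁆ x) = 1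
  rw [map_mul, map_inv, hab, hcomm, hxy, inv_mul_cancel]

/-- A coprime automorphism fixing `N` and acting trivially on `L/N` fixes `L`. -/
theorem fix_of_stab [Finite R] [hp : Fact p.Prime] (hR : IsPGroup p R) {a : MulAut R}
    (ha : (orderOf a).Coprime p) {N L : Subgroup R} [hN : N.Normal] (hfix : ∀ c ∈ N, a c = c)
    (h : ∀ x ∈ L, x⁻¹ * a x ∈ N) : ∀ x ∈ L, a x = x := by
  intro x hx
  set c := a x * x⁻¹ with hc
  have hcN : c ∈ N := by
    have := hN.conj_mem _ (h x hx) x
    rwa [← mul_assoc, mul_inv_cancel, one_mul] at this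
  have hap := BG4.autPow_apply (hfix c hcN) (show a x = c * x by rw [hc]; group) (orderOf a)
  rw [pow_orderOf_eq_one, MulAut.one_apply] at hap
  have h1 : orderOf c ∣ orderOf a := orderOf_dvd_of_pow_eq_one (by simpa using hap.symm)
  obtain ⟨k, hk⟩ := IsPGroup.iff_orderOf.mp hR c
  exact mul_inv_eq_one.mp (orderOf_eq_one_iff.mp
    (Nat.eq_one_of_dvd_coprimes (ha.pow_right k) h1 (hk ▸ dvd_rfl)))

/-- For a narrow `p`-group of rank at least three an element of `charFixer` of order prime to `p`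
is trivial. -/
theorem eq_one_of_mem_charFixer [Finite R] [hp : Fact p.Prime] (hp2 : p ≠ 2) (hR : IsPGroup p R)
    (hr : ¬ Cfsg.PRankLE p 2 R) (hn : Cfsg.IsNarrow p R) {a : MulAut R}
    (ha : a ∈ charFixer p R) (hco : (orderOf a).Coprime p) : a = 1 := by
  obtain ⟨hTc, hTi, hZ, r, hrT, hr'⟩ := narrow_exists_element hp2 hR hr hn
  obtain ⟨Q, hQc, hQp, -, hQf⟩ := BG4.exists_critical_exponent hp2 hR
  set T := centralizer (omegaZ2 p R : Set R) with hT
  haveI := hTc
  haveI := hQc
  set S := T ⊓ Q with hS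
  haveI hSc : S.Characteristic := characteristic_inf
  have key : ∀ m : ℕ, ∀ X : Subgroup R, X.Characteristic → X ≤ S → Nat.card X ≤ m →
      ∀ x ∈ X, a x = x := by
    intro m
    induction m using Nat.strong_induction_on with
    | _ m ih =>
      intro X hXc hXS hXm
      haveI := hXc
      rcases eq_or_ne X ⊥ with rfl | hne
      · intro x hx
        rw [mem_bot.mp hx, map_one]
      set N := ⁅X, (⊤ : Subgroup R)⁆ with hN
      haveI hNc : N.Characteristic := by
        rw [hN]; infer_instance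
      have hNX : N ≤ X := commutator_le_left _ _
      have hNne : N ≠ X := fun h => hne (by
        haveI := hR.isNilpotent
        exact BG4.eq_bot_of_le_commutator_top h.ge)
      have hlt := card_lt_of_lt (lt_of_le_of_ne hNX hNne)
      -- the fibres of `s ↦ ⁅s, r⁆` have at most `p` elements
      set Cx := (centralizer ({r} : Set R)).subgroupOf X with hCx
      have hCcard : Nat.card Cx ≤ p := by
        rw [← hZ]
        refine Nat.card_le_card_of_injective (fun s : Cx => (⟨((s : X) : R), hr' _ (hXS s.1.2).1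
          (hQp _ (hXS s.1.2).2) (mem_centralizer_singleton_iff.mp s.2)⟩ : omegaCenter p R)) ?_
        intro s t h
        exact Subtype.ext (Subtype.ext (congrArg (Subtype.val) h :))
      let f : X ⧸ Cx → N := Quotient.lift
        (fun s : X => (⟨⁅(s : R), r⁆, commutator_mem_commutator s.2 (mem_top r)⟩ : N))
        (by
          intro s t hst
          have h : (s : R)⁻¹ * t ∈ centralizer ({r} : Set R) :=
            (mem_subgroupOf.mp (QuotientGroup.leftRel_apply.mp hst) :)
          rw [mem_centralizer_singleton_iff] at h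
          refine Subtype.ext ?_
          show ⁅(s : R), r⁆ = ⁅(t : R), r⁆
          rw [commutatorElement_def, commutatorElement_def]
          calc (s : R) * r * (s : R)⁻¹ * r⁻¹
              = s * (r * ((s : R)⁻¹ * t)) * (t : R)⁻¹ * r⁻¹ := by group
            _ = s * (((s : R)⁻¹ * t) * r) * (t : R)⁻¹ * r⁻¹ := by rw [h]
            _ = (t : R) * r * (t : R)⁻¹ * r⁻¹ := by group)
      have hf : Function.Injective f := by
        intro u v
        obtain ⟨s, rfl⟩ := QuotientGroup.mk_surjective u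
        obtain ⟨t, rfl⟩ := QuotientGroup.mk_surjective v
        intro h
        have h1 : ⁅(s : R), r⁆ = ⁅(t : R), r⁆ := congrArg Subtype.val h
        refine QuotientGroup.eq.mpr (mem_subgroupOf.mpr (mem_centralizer_singleton_iff.mpr ?_))
        rw [commutatorElement_def, commutatorElement_def, mul_left_inj] at h1
        show (s : R)⁻¹ * t * r = r * ((s : R)⁻¹ * t)
        calc (s : R)⁻¹ * t * r = (s : R)⁻¹ * ((t : R) * r * (t : R)⁻¹) * t := by group
          _ = (s : R)⁻¹ * ((s : R) * r * (s : R)⁻¹) * t := by rw [h1]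
          _ = r * ((s : R)⁻¹ * t) := by group
      have hXcard : Nat.card X ≤ Nat.card N * p := by
        rw [← card_mul_index Cx, mul_comm]
        exact Nat.mul_le_mul (Nat.card_le_card_of_injective f hf) hCcard
      have hrel : N.relIndex X ≤ p := by
        have h2 : Nat.card N * N.relIndex X = Nat.card X := by
          have := relIndex_mul_relIndex ⊥ N X bot_le hNX
          rwa [relIndex_bot_left, relIndex_bot_left] at this
        exact Nat.le_of_mul_le_mul_left (h2 ▸ hXcard) Nat.card_pos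
      exact fix_of_stab hR hco (ih _ (hlt.trans_le hXm) N hNc (hNX.trans hXS) le_rfl)
        (ha N X hNc hXc hNX hrel)
  refine hQf a hco (fix_of_stab hR hco (key _ S hSc le_rfl le_rfl)
    (ha S Q hSc hQc inf_le_right ?_))
  rw [hS, inf_comm, inf_relIndex_left]
  exact ((relIndex_le_of_le_right le_top (by simpa using index_ne_zero_of_finite)).trans_eq
    (relIndex_top_right _)).trans hTi.le

/-- BG 5.5 (a). -/
theorem isPGroup_map_commutator [Finite R] [hp : Fact p.Prime] (hp2 : p ≠ 2) (hR : IsPGroup p R)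
    (hn : Cfsg.IsNarrow p R) {A : Type*} [Group A] [Finite A] [Group.IsSolvable A]
    (hodd : Odd (Nat.card A)) (φ : A →* MulAut R) : IsPGroup p ((commutator A).map φ) := by
  by_cases hr : Cfsg.PRankLE p 2 R
  · exact BG4.isPGroup_map_commutator hp2 hR hr hodd φ
  refine (BG4.isPGroup_of_coprime_trivial (K := charFixer p R)
    fun a ha hco => eq_one_of_mem_charFixer hp2 hR hr hn ha hco).to_le ?_
  rw [map_le_iff_le_comap, commutator_eq_closure, closure_le]
  rintro _ ⟨g, h, rfl⟩
  rw [SetLike.mem_coe, mem_comap, map_commutatorElement]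
  exact commutator_mem_charFixer hR _ _

/-- BG 5.5 (b). -/
theorem orderOf_dvd_sub_one [Finite R] [hp : Fact p.Prime] (hp2 : p ≠ 2) (hR : IsPGroup p R)
    (hn : Cfsg.IsNarrow p R) (hr : ¬ Cfsg.PRankLE p 2 R) {a : MulAut R}
    (hco : (orderOf a).Coprime p) : orderOf a ∣ p - 1 :=
  orderOf_dvd_of_pow_eq_one (eq_one_of_mem_charFixer hp2 hR hr hn (pow_sub_one_mem_charFixer hR a)
    (hco.coprime_dvd_left (orderOf_pow_dvd _)))

/-- A solvable group of odd order acting faithfully on a narrow `p`-group. -/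
theorem structure_of_faithful [Finite R] [hp : Fact p.Prime] (hp2 : p ≠ 2) (hR : IsPGroup p R)
    (hn : Cfsg.IsNarrow p R) {A : Type*} [Group A] [Finite A] [Group.IsSolvable A]
    (hodd : Odd (Nat.card A)) (φ : A →* MulAut R) (hker : IsPGroup p φ.ker) :
    commutator A ≤ Cfsg.pCore p A ∧ ((Cfsg.pCore p A).index).Coprime p := by
  set F := Cfsg.pCore p A with hF
  have hcomm : commutator A ≤ F := by
    refine PLocal.le_pCore ?_
    rintro ⟨x, hx⟩
    obtain ⟨k, hk⟩ := isPGroup_map_commutator hp2 hR hn hodd φ ⟨φ x, mem_map_of_mem φ hx⟩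
    have hxk : φ (x ^ p ^ k) = 1 := by
      rw [map_pow]
      simpa using congrArg Subtype.val hk
    obtain ⟨l, hl⟩ := hker ⟨x ^ p ^ k, hxk⟩
    refine ⟨k + l, Subtype.ext ?_⟩
    have h2 := congrArg Subtype.val hl
    simp only [SubmonoidClass.coe_pow, OneMemClass.coe_one] at h2 ⊢
    rw [pow_add, pow_mul]
    exact h2
  refine ⟨hcomm, PLocal.not_dvd_iff_coprime.mpr fun hdvd => ?_⟩
  haveI : IsMulCommutative (A ⧸ F) :=
    (Subgroup.Normal.quotient_commutative_iff_commutator_le (N := F)).mpr hcomm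
  rw [index_eq_card] at hdvd
  obtain ⟨g, hg⟩ := exists_prime_orderOf_dvd_card' p hdvd
  haveI : (zpowers g).Normal := ⟨fun x hx y => by rwa [mul_comm' y x, mul_inv_cancel_right]⟩
  have hle : zpowers g ≤ Cfsg.pCore p (A ⧸ F) :=
    PLocal.le_pCore (IsPGroup.of_card (n := 1) (by rw [Nat.card_zpowers, hg, pow_one]))
  rw [PLocal.pCore_quotient_pCore_eq_bot] at hle
  have := mem_bot.mp (hle (mem_zpowers g))
  rw [this, orderOf_one] at hg
  exact hp.out.one_lt.ne hg

/-- BG 5.5 (c), last part: a non-metacyclic group of rank two with an automorphism `a` of prime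
order `q`, prime to `p (p - 1)`, with `R = [R, a]`, has order `p³`. -/
theorem card_eq_cube [Finite R] [hp : Fact p.Prime] (hp3 : 3 < p) (hR : IsPGroup p R)
    (hr : Cfsg.PRankLE p 2 R) (hnm : ¬ Cfsg.IsMetacyclic R) {a : MulAut R} {q : ℕ} (hq : q.Prime)
    (hqa : orderOf a = q) (hqp : q.Coprime (p * (p - 1)))
    (hgen : ∀ M : Subgroup R, (∀ x, a x * x⁻¹ ∈ M) → M = ⊤) : Nat.card R = p ^ 3 := by
  have hp2 : p ≠ 2 := by omega
  have hco : (orderOf a).Coprime p := hqa ▸ hqp.coprime_mul_right_right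
  have haK : a ∈ charFixer p R := by
    obtain ⟨m, hm⟩ := exists_pow_eq_self_of_coprime (x := a) (n := p - 1)
      (hqa ▸ hqp.coprime_mul_left_right).symm
    exact hm ▸ pow_mem (pow_sub_one_mem_charFixer hR a) m
  have ha1 : a ≠ 1 := fun h => hq.ne_one (by rw [← hqa, h, orderOf_one])
  set Ω := BG4.omegaSubgroup hp3 hR hr with hΩ
  have hmem : ∀ x, x ∈ Ω ↔ x ^ p = 1 := fun x => Iff.rfl
  haveI hΩc : Ω.Characteristic := characteristic_iff_le_comap.mpr fun φ x hx => by
    rw [mem_comap, hmem]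
    show (φ x) ^ p = 1
    rw [← map_pow, (hmem x).mp hx, map_one]
  have hΩcard : Nat.card Ω = p ^ 3 := by
    have h1 : Nat.card {x : R // x ^ p = 1} = Nat.card Ω := rfl
    have h2 : Nat.card Ω ≤ p ^ 3 := h1 ▸ BG4.card_pow_eq_one_le hp3 hR hr
    have h3 : p ^ 2 < Nat.card Ω := not_le.mp fun h =>
      hnm (BG4.isMetacyclic_of_card_pow_eq_one hp3 hR (h1 ▸ h))
    obtain ⟨n, hn⟩ := IsPGroup.iff_card.mp (hR.to_subgroup Ω)
    rw [hn] at h2 h3 ⊢
    rw [Nat.pow_le_pow_iff_right hp.out.one_lt] at h2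
    rw [Nat.pow_lt_pow_iff_right hp.out.one_lt] at h3
    congr 1; omega
  -- abelian subgroups of `Ω` have order at most `p²`
  have hab : ∀ X : Subgroup R, X ≤ Ω → IsMulCommutative X → Nat.card X ≤ p ^ 2 :=
    fun X hX hXc => hr X hXc fun x hx => (hmem x).mp (hX hx)
  set Z := Ω ⊓ centralizer (Ω : Set R) with hZdef
  haveI hZc : Z.Characteristic := by rw [hZdef]; exact characteristic_inf
  have hZΩ : Z ≤ Ω := inf_le_left
  have hZab : IsMulCommutative Z := ⟨⟨fun x y => Subtype.ext (y.2.2 x x.2.1)⟩⟩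
  have hnotle : ∀ X : Subgroup R, X ≤ Ω → Nat.card X ≤ p ^ 2 → ∃ u ∈ Ω, u ∉ X := by
    intro X _ hX
    refine SetLike.not_le_iff_exists.mp fun h => ?_
    have := (card_le_of_le h).trans hX
    rw [hΩcard] at this
    exact absurd this (not_le.mpr (Nat.pow_lt_pow_right hp.out.one_lt (by omega)))
  -- adding a central element keeps a subgroup abelian
  have hext : ∀ u ∈ Ω, IsMulCommutative (Z ⊔ zpowers u : Subgroup R) := by
    intro u hu
    have e0 : Z ≤ centralizer (Z : Set R) := le_centralizer_iff_isMulCommutative.mpr hZab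
    have e1 : zpowers u ≤ centralizer (zpowers u : Set R) :=
      le_centralizer_iff_isMulCommutative.mpr inferInstance
    have e01 : Z ≤ centralizer (zpowers u : Set R) :=
      inf_le_right.trans (centralizer_le (SetLike.coe_subset_coe.mpr (zpowers_le.mpr hu)))
    refine le_centralizer_iff_isMulCommutative.mp ?_
    refine sup_le ?_ ?_ <;> rw [le_centralizer_iff] <;> refine sup_le ?_ ?_
    · exact e0
    · exact le_centralizer_iff.mp e01
    · exact e01
    · exact e1
  obtain ⟨z, hzΩ, hzc, hzo⟩ := BG4.exists_central_orderOf_prime hR (N := Ω) (by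
    intro h
    rw [h, card_bot] at hΩcard
    exact (Nat.one_lt_pow three_ne_zero hp.out.one_lt).ne hΩcard)
  have hzZ : z ∈ Z := ⟨hzΩ, fun y _ => mem_center_iff.mp hzc y⟩
  obtain ⟨u, huΩ, huZ⟩ := hnotle Z hZΩ (hab Z hZΩ hZab)
  set U := Z ⊔ zpowers u with hU
  have hUΩ : U ≤ Ω := sup_le hZΩ (zpowers_le.mpr huΩ)
  have hUcard : Nat.card U ≤ p ^ 2 := hab U hUΩ (hext u huΩ)
  have hZU : Z < U := lt_of_le_of_ne le_sup_left fun h => huZ (h ▸ mem_sup_right (mem_zpowers u))
  have hZcard : Nat.card Z = p := by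
    obtain ⟨n, hn⟩ := IsPGroup.iff_card.mp (hR.to_subgroup Z)
    have h1 := (card_lt_of_lt hZU).trans_le hUcard
    rw [hn, Nat.pow_lt_pow_iff_right hp.out.one_lt] at h1
    have h2 : p ≤ Nat.card Z := by
      rw [← hzo, ← Nat.card_zpowers]
      exact card_le_of_le (zpowers_le.mpr hzZ)
    rw [hn] at h2 ⊢
    rcases n with _ | _ | n
    · rw [pow_zero] at h2; exact absurd hp.out.one_lt (not_lt.mpr h2)
    · rw [zero_add, pow_one]
    · omega
  have hZcen : Z ≤ center R := BG4.le_center_of_normal_card_prime hR hZcard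
  set D := Ω ⊓ (center (R ⧸ Z)).comap (QuotientGroup.mk' Z) with hD
  haveI hDc : D.Characteristic := by
    haveI : ((center (R ⧸ Z)).comap (QuotientGroup.mk' Z)).Characteristic :=
      Characteristic.comap_quotient_mk centerCharacteristic
    exact characteristic_inf
  have hfixΩ : D ≠ Ω → False := by
    intro hne
    have hZD : Z ≤ D := le_inf hZΩ fun x hx => by
      rw [mem_comap, show QuotientGroup.mk' Z x = 1 from (QuotientGroup.eq_one_iff x).mpr hx]
      exact one_mem _
    obtain ⟨w, hw, hwZ⟩ : ∃ w ∈ D, w ∉ Z := by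
      haveI : (Ω.map (QuotientGroup.mk' Z)).Normal :=
        (inferInstance : Ω.Normal).map _ (QuotientGroup.mk'_surjective Z)
      obtain ⟨wb, ⟨w, hw, rfl⟩, hwc, hwo⟩ := BG4.exists_central_orderOf_prime
        (hR.to_quotient Z) (N := Ω.map (QuotientGroup.mk' Z)) (by
          rw [Ne, Subgroup.map_eq_bot_iff, QuotientGroup.ker_mk']
          exact fun h => huZ (h huΩ))
      refine ⟨w, ⟨hw, hwc⟩, fun h => ?_⟩
      rw [show QuotientGroup.mk' Z w = 1 from (QuotientGroup.eq_one_iff w).mpr h,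
        orderOf_one] at hwo
      exact hp.out.one_lt.ne hwo
    have hlt1 : Z < D := lt_of_le_of_ne hZD fun h => hwZ (h ▸ hw)
    have hlt2 : D < Ω := lt_of_le_of_ne inf_le_left hne
    have hDcard : Nat.card D = p ^ 2 := by
      obtain ⟨n, hn⟩ := IsPGroup.iff_card.mp (hR.to_subgroup D)
      have h1 := card_lt_of_lt hlt1
      have h2 := card_lt_of_lt hlt2
      rw [hn, hΩcard, Nat.pow_lt_pow_iff_right hp.out.one_lt] at h2
      rw [hn, hZcard] at h1
      rcases n with _ | _ | n
      · rw [pow_zero] at h1; have := hp.out.one_lt; omega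
      · rw [zero_add, pow_one] at h1; omega
      · rw [hn]; congr 1; omega
    have hrel : ∀ {X Y : Subgroup R}, X ≤ Y → Nat.card X * p = Nat.card Y → X.relIndex Y ≤ p := by
      intro X Y hXY hc
      have h2 := relIndex_mul_relIndex ⊥ X Y bot_le hXY
      rw [relIndex_bot_left, relIndex_bot_left, ← hc] at h2
      exact (Nat.eq_of_mul_eq_mul_left Nat.card_pos h2).le
    have f0 : ∀ x ∈ (⊥ : Subgroup R), a x = x := fun x hx => by rw [mem_bot.mp hx, map_one]
    have f1 := fix_of_stab hR hco f0 (haK ⊥ Z botCharacteristic hZc bot_le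
      (by rw [relIndex_bot_left, hZcard]))
    have f2 := fix_of_stab hR hco f1 (haK Z D hZc hDc hZD
      (hrel hZD (by rw [hZcard, hDcard, sq])))
    have f3 := fix_of_stab hR hco f2 (haK D Ω hDc hΩc inf_le_left
      (hrel inf_le_left (by rw [hΩcard, hDcard, pow_succ p 2])))
    obtain ⟨Q, -, hQp, -, hQf⟩ := BG4.exists_critical_exponent hp2 hR
    exact ha1 (hQf a hco fun x hx => f3 x ((hmem x).mpr (hQp x hx)))
  have hDΩ : D = Ω := by_contra hfixΩ
  have hcommZ : ∀ (g : R), ∀ w ∈ Ω, ⁅g, w⁆ ∈ Z := by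
    intro g w hw
    rw [← hDΩ] at hw
    rw [← QuotientGroup.eq_one_iff, ← QuotientGroup.mk'_apply, map_commutatorElement,
      commutatorElement_eq_one_iff_mul_comm]
    exact mem_center_iff.mp hw.2 _
  obtain ⟨v, hvΩ, hvU⟩ := hnotle U hUΩ hUcard
  have hgenΩ : U ⊔ zpowers v = Ω := by
    refine eq_of_le_of_card_ge (sup_le hUΩ (zpowers_le.mpr hvΩ)) ?_
    have h1 : U < U ⊔ zpowers v :=
      lt_of_le_of_ne le_sup_left fun h => hvU (h ▸ mem_sup_right (mem_zpowers v))
    have h2 := card_lt_of_lt h1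
    have h3 := card_lt_of_lt hZU
    obtain ⟨n, hn⟩ := IsPGroup.iff_card.mp (hR.to_subgroup U)
    obtain ⟨m, hm⟩ := IsPGroup.iff_card.mp (hR.to_subgroup (U ⊔ zpowers v : Subgroup R))
    rw [hn, hm, Nat.pow_lt_pow_iff_right hp.out.one_lt] at h2
    rw [hn, hZcard] at h3
    have : 2 ≤ n := by
      rcases n with _ | _ | n
      · rw [pow_zero] at h3; have := hp.out.one_lt; omega
      · rw [zero_add, pow_one] at h3; omega
      · omega
    rw [hm, hΩcard]
    exact Nat.pow_le_pow_right hp.out.pos (by omega)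
  have hidx1 : ∀ w ∈ Ω, (centralizer ({w} : Set R)).index ≤ p := by
    intro w hw
    let f : R →* Z := MonoidHom.mk' (fun g => ⟨⁅g, w⁆, hcommZ g w hw⟩) fun g h => Subtype.ext (by
      show ⁅g * h, w⁆ = ⁅g, w⁆ * ⁅h, w⁆
      rw [commutatorElement_mul_left_eq_conj_mul,
        mem_center_iff.mp (hZcen (hcommZ h w hw)) g, mul_inv_cancel_right,
        mem_center_iff.mp (hZcen (hcommZ h w hw))])
    have hle : f.ker ≤ centralizer ({w} : Set R) := fun g hg => mem_centralizer_singleton_iff.mpr
      (commutatorElement_eq_one_iff_mul_comm.mp (congrArg Subtype.val (MonoidHom.mem_ker.mp hg)))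
    refine (Nat.le_of_dvd (Nat.pos_of_ne_zero index_ne_zero_of_finite)
      (index_dvd_of_le hle)).trans ?_
    rw [index_ker]
    exact (card_le_card_group _).trans hZcard.le
  set C := centralizer (Ω : Set R) with hC
  haveI hCc : C.Characteristic := by rw [hC]; infer_instance
  have hCle : centralizer ({u} : Set R) ⊓ centralizer ({v} : Set R) ≤ C := by
    intro g hg
    have h : Ω ≤ centralizer ({g} : Set R) := by
      rw [← hgenΩ, hU]
      refine sup_le (sup_le (fun y hy => mem_centralizer_singleton_iff.mpr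
        (mem_center_iff.mp (hZcen hy) g).symm) ?_) ?_ <;>
        rw [zpowers_le, mem_centralizer_singleton_iff]
      · exact (mem_centralizer_singleton_iff.mp hg.1).symm
      · exact (mem_centralizer_singleton_iff.mp hg.2).symm
    exact fun y hy => mem_centralizer_singleton_iff.mp (h hy)
  have hCidx : C.index ≤ p ^ 2 := by
    refine (Nat.le_of_dvd (Nat.pos_of_ne_zero index_ne_zero_of_finite)
      (index_dvd_of_le hCle)).trans (index_inf_le.trans ?_)
    rw [sq]
    exact Nat.mul_le_mul (hidx1 u huΩ) (hidx1 v hvΩ)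
  have htop : Ω ⊔ C = ⊤ := by
    have h1 : C.relIndex Ω = p ^ 2 := by
      have h2 := relIndex_mul_relIndex ⊥ Z Ω bot_le hZΩ
      rw [relIndex_bot_left, relIndex_bot_left, hZcard, hΩcard, pow_succ' p 2] at h2
      rw [← inf_relIndex_left]
      exact Nat.eq_of_mul_eq_mul_left hp.out.pos h2
    have h3 := relIndex_mul_index (show C ≤ Ω ⊔ C from le_sup_right)
    rw [relIndex_sup_right, h1] at h3
    rw [← index_eq_one]
    have h4 : p ^ 2 * (Ω ⊔ C).index ≤ p ^ 2 * 1 := by rw [h3, mul_one]; exact hCidx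
    have h5 := Nat.le_of_mul_le_mul_left h4 (pow_pos hp.out.pos 2)
    have h6 : (Ω ⊔ C).index ≠ 0 := index_ne_zero_of_finite
    omega
  -- `a` centralises `C`
  have hfixC : ∀ c ∈ C, a c = c := by
    have hfixZ : ∀ x ∈ Z, a x = x := fix_of_stab hR hco (N := ⊥) (L := Z)
      (fun x hx => by rw [mem_bot.mp hx, map_one])
      (haK ⊥ Z botCharacteristic hZc bot_le (by rw [relIndex_bot_left, hZcard]))
    obtain ⟨Q, -, hQp, -, hQf⟩ := BG4.exists_critical_exponent hp2 (hR.to_subgroup C)
    have h1 : MulAut.characteristic C a = 1 := by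
      refine hQf _ (hco.coprime_dvd_left (orderOf_map_dvd _ _)) fun x hx => Subtype.ext ?_
      show a (x : R) = x
      refine hfixZ _ ⟨(hmem _).mpr ?_, x.2⟩
      simpa using congrArg Subtype.val (hQp x hx)
    intro c hc
    simpa using congrArg Subtype.val (DFunLike.congr_fun h1 ⟨c, hc⟩)
  have hΩtop : Ω = ⊤ := hgen Ω fun x => by
    have hx : x ∈ Ω ⊔ C := htop ▸ mem_top x
    obtain ⟨w, hw, c, hc, rfl⟩ := mem_sup_of_normal_right.mp hx
    rw [map_mul, hfixC c hc, show a w * c * (w * c)⁻¹ = a w * w⁻¹ by group]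
    exact mul_mem (apply_mem_char hΩc a hw) (inv_mem hw)
  rw [← hΩcard, hΩtop, card_top]

end CfsgLib.OddOrder.BG5
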