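import Cfsg.Agent.OddOrder.BG5.Aut
import Cfsg.Agent.OddOrder.BG4.RankTwoSolvable
import Cfsg.Agent.OddOrder.BG6Fusion

/-!
# Solvable groups of odd order with a narrow Sylow `p`-subgroup (Bender–Glauberman 5.6)

* `conclusions_of_core`: the consequences of `(G/O_{p'})' ≤ O_p`, with index prime to `p`.
* `narrow_core`: the structure of `G / O_{p'}(G)` for a narrow Sylow subgroup of rank at least three
  and `p`-length one.
-/

set_option autoImplicit false
set_option linter.style.haveILetI false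

namespace CfsgLib.OddOrder.BG5

open Subgroup

universe u

variable {G : Type*} [Group G] [Finite G] {p : ℕ}

theorem conclusions_of_core [hp : Fact p.Prime] (hodd : Odd (Nat.card G))
    (hcomm : commutator (G ⧸ Cfsg.pPrimeCore p G) ≤ Cfsg.pCore p (G ⧸ Cfsg.pPrimeCore p G))
    (hidx : ¬ p ∣ (Cfsg.pCore p (G ⧸ Cfsg.pPrimeCore p G)).index)
    (hprimes : ∀ q : ℕ, q.Prime → q ∣ Nat.card (G ⧸ Cfsg.pPrimeCore p G) → q ≠ p → q < p) :
    (∀ q : ℕ, q.Prime → q ∣ (Cfsg.pPrimeCore p G).index → q ≤ p) ∧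
      ((p = 3 ∨ ∀ q : ℕ, q.Prime → q ∣ Nat.card G → p ≤ q) → Cfsg.HasNormalPComplement p G) ∧
      Cfsg.HasNormalPComplement p ↥(commutator G) ∧
      (∀ L : Subgroup ↥(commutator G), (Nat.card L).Coprime p →
        L ≤ Cfsg.pPrimeCore p ↥(commutator G)) ∧
      commutator G ≤ Cfsg.pPrimePCore p G ∧ ((Cfsg.pPrimePCore p G).index).Coprime p := by
  have hOd : ¬ p ∣ Nat.card (Cfsg.pPrimeCore p G) :=
    PLocal.not_dvd_iff_coprime.mp (PLocal.coprime_card_pPrimeCore p G)
  set π := QuotientGroup.mk' (Cfsg.pPrimeCore p G)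
  have hmapc : (commutator G).map π ≤ commutator (G ⧸ Cfsg.pPrimeCore p G) := by
    rw [commutator_def, Subgroup.map_commutator]
    exact commutator_mono le_top le_top
  have hGcomp : ∀ x : G, x ∈ commutator G → ∃ k : ℕ, x ^ p ^ k ∈ Cfsg.pPrimeCore p G := by
    intro x hx
    obtain ⟨k, hk⟩ := PLocal.isPGroup_pCore p _ ⟨π x, hcomm (hmapc (mem_map_of_mem π hx))⟩
    refine ⟨k, (QuotientGroup.eq_one_iff _).mp ?_⟩
    have h : π x ^ p ^ k = 1 := by simpa using congrArg Subtype.val hk
    rw [← map_pow] at h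
    exact h
  set N := (Cfsg.pPrimeCore p G).subgroupOf (commutator G) with hN
  have hNd : ¬ p ∣ Nat.card N := fun h => hOd (h.trans (card_comap_dvd_of_injective _ _
    (commutator G).subtype_injective))
  have hNq : IsPGroup p (↥(commutator G) ⧸ N) := by
    intro y
    obtain ⟨x, rfl⟩ := QuotientGroup.mk_surjective y
    obtain ⟨k, hk⟩ := hGcomp x x.2
    refine ⟨k, ?_⟩
    rw [← QuotientGroup.mk_pow, QuotientGroup.eq_one_iff]
    exact hk
  refine ⟨?_, ?_, Transfer.hasNormalPComplement_of_normal N hNd hNq, ?_, ?_, ?_⟩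
  · intro q hq hd
    rw [index_eq_card] at hd
    by_cases hqp : q = p
    · exact hqp.le
    · exact (hprimes q hq hd hqp).le
  · intro hcase
    refine Transfer.hasNormalPComplement_of_normal _ hOd ?_
    have hall : ∀ q : ℕ, q.Prime → q ∣ Nat.card (G ⧸ Cfsg.pPrimeCore p G) → q = p := by
      intro q hq hd
      by_contra hne
      have h1 := hprimes q hq hd hne
      have hdG : q ∣ Nat.card G := hd.trans (card_quotient_dvd_card _)
      rcases hcase with h3 | hmin
      · have := BG4.prime_ne_two hodd hdG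
        have := hq.two_le
        omega
      · have := hmin q hq hdG
        omega
    refine IsPGroup.of_card (n := (Nat.card (G ⧸ Cfsg.pPrimeCore p G)).factorization p) ?_
    refine Nat.eq_of_factorization_eq Nat.card_pos.ne'
      (pow_ne_zero _ hp.out.ne_zero) fun q => ?_
    rw [hp.out.factorization_pow]
    by_cases hqp : q = p
    · rw [hqp, Finsupp.single_eq_same]
    · rw [Finsupp.single_eq_of_ne hqp]
      by_contra hne
      exact hqp (hall q (Nat.prime_of_mem_primeFactors (Nat.support_factorization _ ▸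
        Finsupp.mem_support_iff.mpr hne)) (Nat.dvd_of_factorization_pos hne))
  · intro L hL x hx
    refine (show N ≤ Cfsg.pPrimeCore p _ from PLocal.le_pPrimeCore (
      PLocal.not_dvd_iff_coprime.mpr hNd)) ?_
    obtain ⟨k, hk⟩ := hGcomp x x.2
    have hco : (orderOf (x : G)).Coprime (p ^ k) := by
      rw [orderOf_coe]
      exact ((hL.coprime_dvd_left (orderOf_dvd_natCard L hx)).pow_right k)
    obtain ⟨m, hm⟩ := exists_pow_eq_self_of_coprime hco.symm
    show (x : G) ∈ Cfsg.pPrimeCore p G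
    exact hm ▸ pow_mem hk m
  · intro x hx
    exact hcomm (hmapc (mem_map_of_mem π hx))
  · rw [Cfsg.pPrimePCore, index_comap_of_surjective _ (QuotientGroup.mk'_surjective _)]
    exact PLocal.not_dvd_iff_coprime.mpr hidx

omit [Finite G] in
theorem isNarrow_of_mulEquiv {R R' : Type u} [Group R] [Group R'] (e : R ≃* R')
    (h : Cfsg.IsNarrow p R) : Cfsg.IsNarrow p R' := by
  rcases h with h | ⟨R₀, R₁, h0, h1, hinf, hcomm, hC⟩
  · exact Or.inl (BG4.pRankLE_of_injective e.symm.toMonoidHom e.symm.injective h)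
  refine Or.inr ⟨R₀.map e.toMonoidHom, R₁.map e.toMonoidHom, ?_, ?_, ?_, ?_, ?_⟩
  · rw [card_map_of_injective e.injective, h0]
  · haveI := h1
    exact isCyclic_of_surjective (e.subgroupMap R₁).toMonoidHom (MulEquiv.surjective _)
  · rw [← map_inf _ _ _ e.injective, hinf, Subgroup.map_bot]
  · rintro _ ⟨a, ha, rfl⟩ _ ⟨b, hb, rfl⟩
    rw [← map_mul, ← map_mul, hcomm a ha b hb]
  · rw [← Subgroup.map_sup, hC]
    ext x
    simp only [mem_map, mem_centralizer_iff, SetLike.mem_coe]
    constructor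
    · rintro ⟨y, hy, rfl⟩ _ ⟨a, ha, rfl⟩
      show e a * e y = e y * e a
      rw [← map_mul, ← map_mul, hy a ha]
    · intro hx
      refine ⟨e.symm x, fun a ha => e.injective ?_, e.apply_symm_apply x⟩
      rw [map_mul, map_mul, e.apply_symm_apply]
      exact hx (e a) ⟨a, ha, rfl⟩

theorem pRankLE_of_sylow [hp : Fact p.Prime] {k : ℕ} (S : Sylow p G)
    (h : Cfsg.PRankLE p k ↥(S : Subgroup G)) : Cfsg.PRankLE p k G := by
  intro A hA hAp
  obtain ⟨T, hT⟩ := (IsPGroup.exists_le_sylow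
    (fun a => ⟨1, Subtype.ext (by simpa using hAp a a.2)⟩ : IsPGroup p A))
  let e : A →* (S : Subgroup G) :=
    ((Sylow.equiv T S).toMonoidHom).comp (inclusion hT)
  have hinj : Function.Injective e := (MulEquiv.injective _).comp (inclusion_injective hT)
  have := BG4.pRankLE_of_injective e hinj h ⊤
    ⟨⟨fun a b => Subtype.ext (hA.is_comm.comm a.1 b.1)⟩⟩
    (fun a _ => Subtype.ext (by simpa using hAp a a.2))
  rwa [card_top] at this

/-- BG 5.6, the core: rank at least three and `p`-length one. -/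
theorem narrow_core [Group.IsSolvable G] [hp : Fact p.Prime] (hp2 : p ≠ 2)
    (hodd : Odd (Nat.card G)) (S : Sylow p G) (hS : Cfsg.IsNarrow p ↥(S : Subgroup G))
    (hr : ¬ Cfsg.PRankLE p 2 ↥(S : Subgroup G)) (hl : Cfsg.PLengthLE p 1 G) :
    commutator (G ⧸ Cfsg.pPrimeCore p G) ≤ Cfsg.pCore p (G ⧸ Cfsg.pPrimeCore p G) ∧
      ¬ p ∣ (Cfsg.pCore p (G ⧸ Cfsg.pPrimeCore p G)).index ∧
      ∀ q : ℕ, q.Prime → q ∣ Nat.card (G ⧸ Cfsg.pPrimeCore p G) → q ≠ p → q < p := by
  set O := Cfsg.pPrimeCore p G with hO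
  set π := QuotientGroup.mk' O with hπ
  set F := Cfsg.pCore p (G ⧸ O) with hF
  have hFS : (S : Subgroup G).map π = F := by
    have h1 := congrArg (Subgroup.map π) (pPrimeCore_sup_sylow hl S)
    rw [Subgroup.map_sup, (Subgroup.map_eq_bot_iff _).mpr (QuotientGroup.ker_mk' O).ge,
      bot_sup_eq] at h1
    rw [h1]
    exact map_comap_eq_self_of_surjective (QuotientGroup.mk'_surjective O) F
  let f : (S : Subgroup G) →* F := (π.comp (S : Subgroup G).subtype).codRestrict F
    fun x => hFS ▸ mem_map_of_mem π x.2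
  have hf : Function.Bijective f := by
    refine ⟨?_, ?_⟩
    · rw [← MonoidHom.ker_eq_bot_iff, eq_bot_iff]
      intro x hx
      have hxO : (x : G) ∈ O := (QuotientGroup.eq_one_iff _).mp (congrArg Subtype.val hx)
      have h1 : orderOf (x : G) ∣ Nat.card O := orderOf_dvd_natCard O hxO
      obtain ⟨j, hj⟩ := IsPGroup.iff_orderOf.mp S.isPGroup' x
      rw [orderOf_coe, hj] at h1
      have h2 : p ^ j = 1 := Nat.eq_one_of_dvd_coprimes
        ((PLocal.coprime_card_pPrimeCore p G).pow_right j) h1 dvd_rfl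
      rw [h2] at hj
      exact mem_bot.mpr (orderOf_eq_one_iff.mp hj)
    · rintro ⟨y, hy⟩
      rw [← hFS] at hy
      obtain ⟨x, hx, rfl⟩ := hy
      exact ⟨⟨x, hx⟩, rfl⟩
  let e := MulEquiv.ofBijective f hf
  have hFn : Cfsg.IsNarrow p F := isNarrow_of_mulEquiv e hS
  have hFr : ¬ Cfsg.PRankLE p 2 F := fun h =>
    hr (BG4.pRankLE_of_injective e.toMonoidHom e.injective h)
  have hFp : IsPGroup p F := PLocal.isPGroup_pCore p _
  have hC : centralizer (F : Set (G ⧸ O)) ≤ F :=
    PLocal.centralizer_pCore_le PLocal.isPSolvable_of_isSolvable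
      (PLocal.pPrimeCore_quotient_pPrimeCore_eq_bot p G)
  set φ : G ⧸ O →* MulAut F := MulAut.conjNormal with hφ
  have hker : φ.ker ≤ F := by
    intro g hg
    refine hC fun x hx => ?_
    have := congrArg Subtype.val (DFunLike.congr_fun (MonoidHom.mem_ker.mp hg) ⟨x, hx⟩)
    rw [MulAut.conjNormal_apply] at this
    simp only [MulAut.one_apply] at this
    calc x * g = g * x * g⁻¹ * g := by rw [this]
      _ = g * x := by group
  have hodd' : Odd (Nat.card (G ⧸ O)) := hodd.of_dvd_nat (card_quotient_dvd_card _)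
  obtain ⟨h1, h2⟩ := structure_of_faithful hp2 hFp hFn hodd' φ (hFp.to_le hker)
  refine ⟨h1, PLocal.not_dvd_iff_coprime.mp h2, fun q hq hd hqp => ?_⟩
  haveI : Fact q.Prime := ⟨hq⟩
  obtain ⟨g, hg⟩ := exists_prime_orderOf_dvd_card' q hd
  have hφg : orderOf (φ g) = q := by
    refine ((Nat.dvd_prime hq).mp (hg ▸ orderOf_map_dvd φ g)).resolve_left fun h => ?_
    obtain ⟨k, hk⟩ := IsPGroup.iff_orderOf.mp hFp ⟨g, hker (orderOf_eq_one_iff.mp h)⟩
    rw [← Subgroup.orderOf_coe] at hk
    simp only at hk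
    rw [hg] at hk
    rcases Nat.eq_zero_or_pos k with rfl | hk0
    · exact hq.ne_one (by simpa using hk)
    · exact hqp ((Nat.prime_dvd_prime_iff_eq hp.out hq).mp (hk ▸ dvd_pow_self p hk0.ne')).symm
  have h3 := orderOf_dvd_sub_one hp2 hFp hFn hFr
    (hφg ▸ (Nat.coprime_primes hq hp.out).mpr hqp)
  rw [hφg] at h3
  have := Nat.le_of_dvd (by have := hp.out.two_le; omega) h3
  omega

end CfsgLib.OddOrder.BG5
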