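import Cfsg.Agent.OddOrder.BG5.Aut
import Cfsg.Agent.OddOrder.BG4.RankTwoSolvable
import Cfsg.Agent.IsolatedP.RankOne

/-!
# Solvable groups whose Fitting subgroup is small outside an elementary abelian subgroup

* `isNarrow_of_maximal_elementary`: a `p`-group of rank at least three with a maximal elementary
  abelian subgroup of order `p²` is narrow (the converse half of BG 5.3).
* `isPGroup_map_commutator_of_small_centralizer`: BG 5.5 (a) for a `p`-group in which some
  elementary abelian subgroup has a centralizer of rank at most two.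
* `commutator_le_fitting`: if `C_{F(G)}(E)` has rank at most two for an elementary abelian
  `E ≤ F(G)`, then `G' ≤ F(G)` (`G` solvable of odd order).
-/

set_option autoImplicit false
set_option linter.style.haveILetI false

namespace CfsgLib.OddOrder.BG5

open Subgroup
open scoped commutatorElement

variable {R : Type*} [Group R] [Finite R] {p : ℕ} [hp : Fact p.Prime]

/-- BG 5.3, the converse half. -/
theorem isNarrow_of_maximal_elementary (hp2 : p ≠ 2) (hR : IsPGroup p R)
    (hr : ¬ Cfsg.PRankLE p 2 R) {E : Subgroup R} (hE : Cfsg.IsElementaryAbelian p E)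
    (hE2 : Nat.card E = p ^ 2)
    (hEmax : ∀ B : Subgroup R, Cfsg.IsElementaryAbelian p B → E ≤ B → B = E) :
    Cfsg.IsNarrow p R := by
  obtain ⟨hET, hZ, -, hTc, hTi, -, hkey⟩ := structure_of_maximal_elementary hp2 hR hr E hE hE2 hEmax
  obtain ⟨r, hrE, hrT⟩ := SetLike.not_le_iff_exists.mp hET
  set T := centralizer (omegaZ2 p R : Set R) with hT
  haveI := hTc
  have hr1 : r ≠ 1 := fun h => hrT (h ▸ one_mem T)
  have hord : orderOf r = p := orderOf_eq_prime (hE.2 r hrE) hr1
  -- an element of `⟨r⟩` in `T` is trivial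
  have hzT : ∀ x ∈ zpowers r, x ∈ T → x = 1 := by
    intro x hx hxT
    by_contra hx1
    refine hrT ?_
    have hxo : orderOf x = p := by
      have h := orderOf_dvd_natCard (⟨x, hx⟩ : zpowers r)
      rw [Nat.card_zpowers, hord, ← Subgroup.orderOf_coe] at h
      exact (hp.out.eq_one_or_self_of_dvd _ h).resolve_left fun h1 => hx1 (orderOf_eq_one_iff.mp h1)
    have heq : zpowers x = zpowers r :=
      eq_of_le_of_card_ge (zpowers_le.mpr hx) (by rw [Nat.card_zpowers, Nat.card_zpowers, hord, hxo])
    exact zpowers_le.mpr hxT (heq ▸ mem_zpowers r)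
  refine Or.inr ⟨zpowers r, T ⊓ centralizer ({r} : Set R),
    by rw [Nat.card_zpowers, hord], ?_, ?_, ?_, ?_⟩
  · refine IsolatedP.isCyclic_of_card_pow_eq_one_le_prime p hp2 _ _ rfl (hR.to_subgroup _) ?_
    refine le_trans (Nat.card_le_card_of_injective
      (fun y : {y : ↥(T ⊓ centralizer ({r} : Set R)) // y ^ p = 1} =>
        (⟨(y.1 : R), hkey r hrE hrT _ y.1.2.1 (by simpa using congrArg Subtype.val y.2)
          (mem_centralizer_singleton_iff.mp y.1.2.2)⟩ : omegaCenter p R)) ?_) hZ.le
    intro a b hab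
    have h2 : ((a.1 : ↥(T ⊓ centralizer ({r} : Set R))) : R) = b.1 := by simpa using hab
    exact Subtype.ext (Subtype.ext h2)
  · rw [eq_bot_iff]
    rintro x ⟨hx, hxT, -⟩
    exact mem_bot.mpr (hzT x hx hxT)
  · rintro a ha b ⟨-, hb⟩
    obtain ⟨i, rfl⟩ := mem_zpowers_iff.mp ha
    have hc : Commute b r := mem_centralizer_singleton_iff.mp hb
    exact ((hc.zpow_right i).symm).eq
  · rw [zpowers_eq_closure, centralizer_closure, ← zpowers_eq_closure]
    apply le_antisymm
    · refine sup_le (zpowers_le.mpr ?_) inf_le_right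
      exact mem_centralizer_singleton_iff.mpr rfl
    · intro c hc
      have hq : zpowers (QuotientGroup.mk' T r) = ⊤ := by
        refine zpowers_eq_top_of_prime_card (p := p) ?_ ?_
        · rw [← Subgroup.index_eq_card, hTi]
        · exact fun h => hrT ((QuotientGroup.eq_one_iff r).mp h)
      obtain ⟨i, hi⟩ := mem_zpowers_iff.mp (hq ▸ mem_top (QuotientGroup.mk' T c))
      have hcT : c * (r ^ i)⁻¹ ∈ T := by
        rw [← QuotientGroup.eq_one_iff (N := T)]
        show QuotientGroup.mk' T (c * (r ^ i)⁻¹) = 1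
        rw [map_mul, map_inv, map_zpow, hi, mul_inv_cancel]
      rw [← inv_mul_cancel_right c (r ^ i)]
      refine mul_mem (mem_sup_right ⟨hcT, (centralizer ({r} : Set R)).mul_mem hc ((centralizer ({r} : Set R)).inv_mem ((centralizer ({r} : Set R)).zpow_mem ?_ i))⟩)
        (mem_sup_left (zpow_mem (mem_zpowers r) i))
      exact mem_centralizer_singleton_iff.mpr rfl

/-- A `p`-group of rank at least three in which the centralizer of some elementary abelian subgroup
has rank at most two is narrow. -/
theorem isNarrow_of_small_centralizer (hp2 : p ≠ 2) (hR : IsPGroup p R)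
    (hr : ¬ Cfsg.PRankLE p 2 R) {E : Subgroup R} (hE : Cfsg.IsElementaryAbelian p E)
    (hC : Cfsg.PRankLE p 2 ↥(centralizer (E : Set R))) : Cfsg.IsNarrow p R := by
  haveI := hE.1
  set E' := E ⊔ omegaCenter p R with hE'
  have hZc : omegaCenter p R ≤ centralizer (E : Set R) := fun z hz e _ =>
    mem_center_iff.mp (mem_omegaCenter_iff.mp hz).1 e
  have hZe : Cfsg.IsElementaryAbelian p (omegaCenter p R) :=
    ⟨⟨⟨fun a b => Subtype.ext (mem_center_iff.mp (mem_omegaCenter_iff.mp b.2).1 a)⟩⟩,
      fun a ha => (mem_omegaCenter_iff.mp ha).2⟩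
  have hE'e : Cfsg.IsElementaryAbelian p E' :=
    isElementaryAbelian_sup hE hZe (le_centralizer_iff.mp hZc)
  -- elementary abelian subgroups above `E` have order at most `p²`
  have hsmall : ∀ B : Subgroup R, Cfsg.IsElementaryAbelian p B → E ≤ B → Nat.card B ≤ p ^ 2 := by
    intro B hB hEB
    haveI := hB.1
    have hBC : B ≤ centralizer (E : Set R) :=
      (le_centralizer B).trans (centralizer_le hEB)
    have h := hC (B.subgroupOf (centralizer (E : Set R))) ?_ ?_
    · rwa [Nat.card_congr (subgroupOfEquivOfLe hBC).toEquiv] at h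
    · exact ⟨⟨fun a b => Subtype.ext (Subtype.ext (setLike_mul_comm (s := B) a.2 b.2))⟩⟩
    · exact fun a ha => Subtype.ext (by simpa using hB.2 _ (mem_subgroupOf.mp ha))
  obtain ⟨B, hE'B, hBmax⟩ := (Set.toFinite {B : Subgroup R |
    Cfsg.IsElementaryAbelian p B}).exists_le_maximal (a := E') hE'e
  have hBe : Cfsg.IsElementaryAbelian p B := hBmax.1
  have hmax : ∀ C : Subgroup R, Cfsg.IsElementaryAbelian p C → B ≤ C → C = B :=
    fun C hC hle => le_antisymm (hBmax.2 hC hle) hle
  refine isNarrow_of_maximal_elementary hp2 hR hr hBe ?_ hmax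
  refine le_antisymm (hsmall B hBe (le_sup_left.trans hE'B)) ?_
  obtain ⟨n, hn⟩ := BG4.card_elementary_eq_pow hBe.2
  by_contra hlt
  rw [not_le, hn, Nat.pow_lt_pow_iff_right hp.out.one_lt] at hlt
  haveI : Nontrivial R := by
    by_contra hnt
    haveI := not_nontrivial_iff_subsingleton.mp hnt
    refine hr fun A _ _ => ?_
    rw [Nat.card_eq_one_iff_unique.mpr ⟨inferInstance, inferInstance⟩]
    exact Nat.one_le_pow _ _ hp.out.pos
  obtain ⟨z, -, hzc, hzo⟩ := BG4.exists_central_orderOf_prime hR (N := ⊤) top_ne_bot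
  have hzB : zpowers z ≤ B := zpowers_le.mpr (hE'B (mem_sup_right
    (mem_omegaCenter_iff.mpr ⟨hzc, hzo ▸ pow_orderOf_eq_one z⟩)))
  have hBz : zpowers z = B := eq_of_le_of_card_ge hzB (by
    rw [hn, Nat.card_zpowers, hzo]
    exact (Nat.pow_le_pow_right hp.out.pos (by omega : n ≤ 1)).trans_eq (pow_one p))
  have hEc : E ≤ center R :=
    ((le_sup_left.trans hE'B).trans hBz.ge).trans (zpowers_le.mpr hzc)
  refine hr (BG4.pRankLE_of_injective
    ((MonoidHom.id R).codRestrict (centralizer (E : Set R)) fun x e he =>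
      (mem_center_iff.mp (hEc he) x).symm) (fun a b h => congrArg Subtype.val h) hC)

/-- BG 5.5 (a) when some elementary abelian subgroup has a centralizer of rank at most two. -/
theorem isPGroup_map_commutator_of_small_centralizer (hp2 : p ≠ 2) (hR : IsPGroup p R)
    {E : Subgroup R} (hE : Cfsg.IsElementaryAbelian p E)
    (hC : Cfsg.PRankLE p 2 ↥(centralizer (E : Set R)))
    {A : Type*} [Group A] [Finite A] [Group.IsSolvable A] (hodd : Odd (Nat.card A))
    (φ : A →* MulAut R) : IsPGroup p ((commutator A).map φ) := by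
  refine isPGroup_map_commutator hp2 hR ?_ hodd φ
  by_cases hr : Cfsg.PRankLE p 2 R
  · exact Or.inl hr
  · exact isNarrow_of_small_centralizer hp2 hR hr hE hC

end CfsgLib.OddOrder.BG5

namespace CfsgLib.OddOrder.BG5

open Subgroup

variable {G : Type*} [Group G] [Finite G]

/-- If the image of `G'` in the automorphisms of each `O_s(G)` is an `s`-group, then `G' ≤ F(G)`. -/
theorem commutator_le_fitting_of_act [Group.IsSolvable G]
    (h : ∀ s : ℕ, ∀ _ : Fact s.Prime, s ∣ Nat.card G →
      ∀ x ∈ commutator G, ∃ k : ℕ, x ^ s ^ k ∈ centralizer (Cfsg.pCore s G : Set G)) :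
    commutator G ≤ Cfsg.fittingSubgroup G := by
  refine BG4.le_of_sylow_le fun r hrp => ?_
  haveI := Fact.mk hrp
  obtain ⟨S⟩ : Nonempty (Sylow r (commutator G)) := inferInstance
  refine ⟨S, fun x hx => ?_⟩
  have hxD : x ∈ commutator G := map_subtype_le _ hx
  by_cases hx1 : x = 1
  · rw [hx1]; exact one_mem _
  obtain ⟨n, hn⟩ := IsPGroup.iff_orderOf.mp (S.isPGroup'.map (commutator G).subtype) ⟨x, hx⟩
  rw [← Subgroup.orderOf_coe] at hn
  simp only at hn
  have hrG : r ∣ Nat.card G := by
    have hn0 : n ≠ 0 := fun h0 => hx1 (orderOf_eq_one_iff.mp (by rw [hn, h0, pow_zero]))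
    exact (dvd_pow_self r hn0).trans (hn ▸ orderOf_dvd_natCard x)
  -- `U` is the part of `F` away from `r`
  set U : Subgroup G := ⨆ (s : Nat.Primes) (_ : (s : ℕ) ≠ r), Cfsg.pCore (s : ℕ) G with hU
  haveI hUn : U.Normal := by
    haveI : ∀ s : Nat.Primes, (Cfsg.pCore (s : ℕ) G).Normal := fun s => Cfsg.pCore_normal (s : ℕ) G
    rw [hU]; infer_instance
  set W := commutator G ⊓ centralizer (U : Set G) with hW
  haveI : (centralizer (U : Set G)).Normal := inferInstance
  haveI hWn : W.Normal := inferInstance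
  -- `x` lies in `W`
  have hxW : x ∈ W := by
    refine ⟨hxD, ?_⟩
    suffices hle : U ≤ centralizer ({x} : Set G) from fun u hu =>
      mem_centralizer_singleton_iff.mp (hle hu)
    refine iSup_le fun s => iSup_le fun hs u hu => mem_centralizer_singleton_iff.mpr ?_
    haveI : Fact (s : ℕ).Prime := ⟨s.2⟩
    by_cases hsd : (s : ℕ) ∣ Nat.card G
    swap
    · rw [Solvable.pCore_eq_bot_of_not_dvd hsd, mem_bot] at hu
      rw [hu, one_mul, mul_one]
    obtain ⟨k, hk⟩ := h (s : ℕ) ⟨s.2⟩ hsd x hxD
    have hcop : ((s : ℕ) ^ k).Coprime (orderOf x) :=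
      hn ▸ Nat.coprime_pow_primes k n s.2 hrp hs
    obtain ⟨m, hm⟩ := exists_pow_eq_self_of_coprime hcop
    have hxc : x ∈ centralizer (Cfsg.pCore (s : ℕ) G : Set G) := hm ▸ pow_mem hk m
    exact mem_centralizer_iff.mp hxc u hu
  -- `W` is nilpotent
  suffices hWnil : Group.IsNilpotent W by
    exact Solvable.le_fittingSubgroup (N := W) hWnil hxW
  have hWZ : IsPGroup r (W ⧸ center W) := by
    rintro q
    obtain ⟨⟨w, hwD, hwU⟩, rfl⟩ := QuotientGroup.mk_surjective q
    obtain ⟨k, hk⟩ := h r ⟨hrp⟩ hrG w hwD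
    have hF : w ^ r ^ k ∈ Cfsg.fittingSubgroup G := by
      apply Solvable.centralizer_fittingSubgroup_le
      intro z hz
      suffices hle : Cfsg.fittingSubgroup G ≤ centralizer ({w ^ r ^ k} : Set G) from
        mem_centralizer_singleton_iff.mp (hle hz)
      rw [Solvable.fittingSubgroup_eq_iSup]
      refine iSup_le fun s u hu => mem_centralizer_singleton_iff.mpr ?_
      by_cases hs : (s : ℕ) = r
      · exact mem_centralizer_iff.mp hk u (hs ▸ hu)
      · exact mem_centralizer_iff.mp (pow_mem hwU (r ^ k)) u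
          (mem_iSup_of_mem s (mem_iSup_of_mem hs hu))
    set C := centralizer (W : Set G) with hC
    set π := QuotientGroup.mk' C
    have hUC : U ≤ C := le_centralizer_iff.mp inf_le_right
    have himg : IsPGroup r ((Cfsg.fittingSubgroup G).map π) := by
      refine ((PLocal.isPGroup_pCore r G).map π).to_le ?_
      rw [Solvable.fittingSubgroup_eq_iSup, Subgroup.map_iSup]
      refine iSup_le fun s => ?_
      by_cases hs : (s : ℕ) = r
      · rw [hs]
      · rw [(Subgroup.map_eq_bot_iff _).mpr (by
          rw [QuotientGroup.ker_mk']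
          exact le_trans (le_iSup₂ (f := fun (t : Nat.Primes) (_ : (t : ℕ) ≠ r) => Cfsg.pCore (t : ℕ) G) s hs) hUC)]
        exact bot_le
    obtain ⟨m, hm⟩ := himg ⟨π (w ^ r ^ k), mem_map_of_mem π hF⟩
    have hm' : (w ^ r ^ k) ^ r ^ m ∈ C := by
      rw [← QuotientGroup.eq_one_iff (N := C)]
      have := congrArg Subtype.val hm
      simpa [π] using this
    refine ⟨k + m, ?_⟩
    rw [← QuotientGroup.mk_pow, QuotientGroup.eq_one_iff, mem_center_iff]
    intro v
    refine Subtype.ext ?_
    have := mem_centralizer_iff.mp hm' v v.2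
    rw [← pow_mul, ← pow_add] at this
    simpa using this
  exact Group.of_quotient_center_nilpotent hWZ.isNilpotent

/-- S1456: `G' ≤ F(G)` when `C_{F(G)}(E)` has rank at most two. -/
theorem commutator_le_fitting [Group.IsSolvable G] (hodd : Odd (Nat.card G)) {p : ℕ}
    [hp : Fact p.Prime] {E : Subgroup G} (hE : E ≤ Cfsg.fittingSubgroup G)
    (hEe : Cfsg.IsElementaryAbelian p E)
    (hr : Cfsg.RankLE 2 ↥(Cfsg.fittingSubgroup G ⊓ centralizer (E : Set G))) :
    commutator G ≤ Cfsg.fittingSubgroup G := by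
  refine commutator_le_fitting_of_act fun s hs hsd x hx => ?_
  set P := Cfsg.pCore s G with hP
  haveI : P.Normal := Cfsg.pCore_normal s G
  have hPp : IsPGroup s P := PLocal.isPGroup_pCore s G
  have hs2 := BG4.prime_ne_two hodd hsd
  set φ : G →* MulAut P := MulAut.conjNormal with hφ
  -- `E` is a `p`-subgroup of `F`, so in `O_p`
  haveI := Solvable.fittingSubgroup_isNilpotent (G := G)
  have hEP : E ≤ Cfsg.pCore p G := by
    set F := Cfsg.fittingSubgroup G with hF
    haveI : F.Normal := Solvable.fittingSubgroup_normal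
    obtain ⟨S, hS⟩ := (IsPGroup.comap_subtype (K := F) (fun a : E => ⟨1, by
      rw [pow_one]; exact Subtype.ext (hEe.2 a a.2)⟩)).exists_le_sylow
    haveI : (S : Subgroup F).Normal := inferInstance
    haveI := Sylow.characteristic_of_normal S inferInstance
    haveI : ((S : Subgroup F).map F.subtype).Normal := inferInstance
    refine le_trans ?_ (Solvable.le_pCore (N := (S : Subgroup F).map F.subtype) (S.isPGroup'.map _))
    intro e he
    exact ⟨⟨e, hE he⟩, hS he, rfl⟩
  have himage : IsPGroup s ((commutator G).map φ) := by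
    rcases eq_or_ne s p with rfl | hne
    · refine isPGroup_map_commutator_of_small_centralizer hs2 hPp (E := E.subgroupOf P) ?_ ?_ hodd φ
      · haveI := hEe.1
        exact ⟨⟨⟨fun a b => Subtype.ext (Subtype.ext (setLike_mul_comm (s := E) a.2 b.2))⟩⟩,
          fun a ha => Subtype.ext (by simpa using hEe.2 _ (mem_subgroupOf.mp ha))⟩
      · let ι : ↥(centralizer (E.subgroupOf P : Set P)) →*
            ↥(Cfsg.fittingSubgroup G ⊓ centralizer (E : Set G)) :=
          (P.subtype.comp (Subgroup.subtype _)).codRestrict _ fun y =>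
            ⟨Solvable.pCore_le_fittingSubgroup s (y : P).2, fun e he =>
              congrArg Subtype.val (mem_centralizer_iff.mp y.2 ⟨e, hEP he⟩ he)⟩
        refine BG4.pRankLE_of_injective ι (fun a b h => ?_) (hr s hs.out)
        exact Subtype.ext (Subtype.ext (congrArg Subtype.val h :))
    · -- `O_s` centralizes `E`
      have hcen : P ≤ centralizer (E : Set G) := by
        refine le_trans ?_ (centralizer_le hEP)
        rw [← commutator_eq_bot_iff_le_centralizer, ← le_bot_iff,
          ← disjoint_iff.mp (IsPGroup.disjoint_of_ne s p hne _ _ hPp (PLocal.isPGroup_pCore p G))]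
        haveI : (Cfsg.pCore p G).Normal := Cfsg.pCore_normal p G
        exact le_inf (commutator_le_left _ _) (commutator_le_right _ _)
      refine BG4.isPGroup_map_commutator hs2 hPp ?_ hodd φ
      exact BG4.pRankLE_of_injective
        (Subgroup.inclusion (le_inf (Solvable.pCore_le_fittingSubgroup s) hcen))
        (inclusion_injective _) (hr s hs.out)
  obtain ⟨k, hk⟩ := himage ⟨φ x, mem_map_of_mem φ hx⟩
  refine ⟨k, mem_centralizer_iff.mpr fun y hy => ?_⟩
  have h1 : φ (x ^ s ^ k) = 1 := by
    have := congrArg Subtype.val hk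
    simpa using this
  have h2 := congrArg Subtype.val (DFunLike.congr_fun h1 ⟨y, hy⟩)
  rw [MulAut.conjNormal_apply] at h2
  simp only [MulAut.one_apply] at h2
  calc y * x ^ s ^ k = x ^ s ^ k * y * (x ^ s ^ k)⁻¹ * x ^ s ^ k := by rw [h2]
    _ = x ^ s ^ k * y := by group

end CfsgLib.OddOrder.BG5
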